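import Mathlib

/-!
# Two quadratic lattices over the two charts of the projective line
-/

set_option autoImplicit false

universe u v

namespace Groth.Agent.H29DoubleCover

open Polynomial LaurentPolynomial
open scoped LaurentPolynomial

variable {k : Type u} [Field k] {K : Type v} [Field K] [Algebra k K]

/-- Evaluation of Laurent polynomials at a nonzero element. -/
noncomputable def lau (t : K) (ht : t ≠ 0) : k[T;T⁻¹] →ₐ[k] K :=
  AddMonoidAlgebra.lift k K ℤ ((Units.coeHom K).comp (zpowersHom Kˣ (Units.mk0 t ht)))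

theorem lau_T (t : K) (ht : t ≠ 0) (j : ℤ) : lau (k := k) t ht (T j) = t ^ j := by
  rw [lau, T, AddMonoidAlgebra.lift_single, one_smul]
  simp

theorem lau_C (t : K) (ht : t ≠ 0) (c : k) : lau (k := k) t ht (LaurentPolynomial.C c) = algebraMap k K c :=
  (lau (k := k) t ht).commutes c

theorem lau_toLaurent (t : K) (ht : t ≠ 0) (p : k[X]) : lau t ht (toLaurent p) = aeval t p := by
  have h : (lau (k := k) t ht).comp toLaurentAlg = aeval t := Polynomial.algHom_ext (by
    rw [AlgHom.comp_apply, toLaurentAlg_apply, toLaurent_X, lau_T, zpow_one, aeval_X])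
  exact congrArg (fun f : k[X] →ₐ[k] K => f p) h

theorem lau_invert_toLaurent (t : K) (ht : t ≠ 0) (p : k[X]) : lau t ht (invert (toLaurent p)) = aeval t⁻¹ p := by
  have h : ((lau (k := k) t ht).comp invert.toAlgHom).comp toLaurentAlg = aeval t⁻¹ := Polynomial.algHom_ext (by
    rw [AlgHom.comp_apply, AlgHom.comp_apply, toLaurentAlg_apply, toLaurent_X, AlgEquiv.coe_toAlgHom, invert_T,
      lau_T, zpow_neg_one, aeval_X])
  exact congrArg (fun f : k[X] →ₐ[k] K => f p) h

theorem lau_injective (t : K) (ht : t ≠ 0) (hinj : Function.Injective (aeval t : k[X] →ₐ[k] K)) :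
    Function.Injective (lau (k := k) t ht) := by
  refine (injective_iff_map_eq_zero _).2 fun f hf => ?_
  obtain ⟨m, p, hp⟩ := exists_T_pow f
  have h : aeval t p = 0 := by rw [← lau_toLaurent t ht, hp, map_mul, hf, zero_mul]
  have hp0 : p = 0 := hinj (h.trans (map_zero _).symm)
  rw [hp0, map_zero] at hp
  exact (isUnit_T (m : ℤ)).mul_left_eq_zero.1 hp.symm

/-- Units of the Laurent polynomial ring are monomials. -/
theorem exists_eq_C_mul_T_of_isUnit {f : k[T;T⁻¹]} (hf : IsUnit f) :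
    ∃ (c : k) (m : ℤ), c ≠ 0 ∧ f = LaurentPolynomial.C c * T m := by
  obtain ⟨g, hg⟩ := hf.exists_right_inv
  obtain ⟨i, p, hp⟩ := exists_T_pow f
  obtain ⟨j, q, hq⟩ := exists_T_pow g
  have hpq : p * q = X ^ (i + j) := toLaurent_injective (by
    rw [map_mul, hp, hq, map_pow, toLaurent_X, T_pow, mul_one, mul_mul_mul_comm, hg, one_mul, ← T_add, Nat.cast_add])
  obtain ⟨l, -, hl⟩ := (dvd_prime_pow Polynomial.prime_X _).1 ⟨q, hpq.symm⟩
  obtain ⟨w, hw⟩ := hl.symm
  obtain ⟨c, hc, hcw⟩ := Polynomial.isUnit_iff.1 w.isUnit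
  refine ⟨c, (l : ℤ) - i, hc.ne_zero, ?_⟩
  have h : f = toLaurent p * T (-(i : ℤ)) := by
    rw [hp, mul_assoc, ← T_add, add_neg_cancel, T_zero, mul_one]
  rw [h, ← hw, ← hcw, map_mul, toLaurent_C, map_pow, toLaurent_X, T_pow, mul_one, mul_comm (T (l : ℤ)), mul_assoc, ← T_add,
    sub_eq_add_neg]

theorem coeff_toLaurent_of_neg (q : k[X]) {j : ℤ} (hj : j < 0) : (toLaurent q : k[T;T⁻¹]).coeff j = 0 := by
  induction q using Polynomial.induction_on' with
  | add f g hf hg => rw [map_add, AddMonoidAlgebra.coeff_add, Finsupp.add_apply, hf, hg, add_zero]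
  | monomial m r =>
    rw [← Polynomial.C_mul_X_pow_eq_monomial, map_mul, toLaurent_C, map_pow, toLaurent_X, T_pow, mul_one,
      ← LaurentPolynomial.single_eq_C_mul_T]
    simp only [AddMonoidAlgebra.coeff_single]
    exact Finsupp.single_eq_of_ne (by omega)

theorem coeff_invert_toLaurent_of_lt (c : k) (q : k[X]) {n j : ℤ} (hj : -n < j) :
    (LaurentPolynomial.C c * (invert (toLaurent q) * T (-n)) : k[T;T⁻¹]).coeff j = 0 := by
  induction q using Polynomial.induction_on' with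
  | add f g hf hg => rw [map_add, map_add, add_mul, mul_add, AddMonoidAlgebra.coeff_add, Finsupp.add_apply, hf, hg, add_zero]
  | monomial m r =>
    rw [← Polynomial.C_mul_X_pow_eq_monomial, map_mul, toLaurent_C, map_pow, toLaurent_X, T_pow, mul_one,
      map_mul, invert_C, invert_T, mul_assoc, ← T_add, ← mul_assoc, ← map_mul, ← LaurentPolynomial.single_eq_C_mul_T]
    simp only [AddMonoidAlgebra.coeff_single]
    exact Finsupp.single_eq_of_ne (by omega)

/-- A pair of lattices with bases `1, y` over `k[t]` and `1, y'` over `k[1/t]` and the same localisation. -/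
structure Lattices (t y y' : K) (A B C : Subalgebra k K) : Prop where
  inj : Function.Injective (aeval t : k[X] →ₐ[k] K)
  indep : ∀ p q : k[X], aeval t p + aeval t q * y = 0 → p = 0 ∧ q = 0
  indep' : ∀ p q : k[X], aeval t⁻¹ p + aeval t⁻¹ q * y' = 0 → p = 0 ∧ q = 0
  memA : ∀ a, a ∈ A ↔ ∃ p q : k[X], a = aeval t p + aeval t q * y
  memB : ∀ a, a ∈ B ↔ ∃ p q : k[X], a = aeval t⁻¹ p + aeval t⁻¹ q * y'
  memC : ∀ c, c ∈ C ↔ ∃ m : ℕ, t ^ m * c ∈ A
  memC' : ∀ c, c ∈ C ↔ ∃ m : ℕ, t⁻¹ ^ m * c ∈ B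

namespace Lattices

variable {t y y' : K} {A B C : Subalgebra k K} (D : Lattices t y y' A B C)
include D

theorem ne_zero : t ≠ 0 := fun h => by
  have h1 : (X : k[X]) = 0 := D.inj (by rw [aeval_X, map_zero, h])
  exact X_ne_zero h1

/-- The coordinates on the localisation. -/
noncomputable def coord : k[T;T⁻¹] × k[T;T⁻¹] →ₗ[k] K :=
  (lau t D.ne_zero).toLinearMap ∘ₗ LinearMap.fst k _ _ +
    (LinearMap.mulRight k y ∘ₗ (lau t D.ne_zero).toLinearMap) ∘ₗ LinearMap.snd k _ _

theorem coord_apply (p q : k[T;T⁻¹]) : D.coord (p, q) = lau t D.ne_zero p + lau t D.ne_zero q * y := rfl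

theorem coord_injective : Function.Injective D.coord := by
  refine (injective_iff_map_eq_zero _).2 fun ⟨p, q⟩ h => ?_
  rw [D.coord_apply] at h
  obtain ⟨i, p', hp⟩ := exists_T_pow p
  obtain ⟨j, q', hq⟩ := exists_T_pow q
  have h1 : aeval t (p' * X ^ j) + aeval t (q' * X ^ i) * y = 0 := by
    rw [map_mul, map_mul, ← lau_toLaurent t D.ne_zero, ← lau_toLaurent t D.ne_zero q', hp, hq, map_mul, map_mul, lau_T,
      lau_T, map_pow, map_pow, aeval_X, zpow_natCast, zpow_natCast]
    linear_combination (t ^ i * t ^ j) * h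
  obtain ⟨h2, h3⟩ := D.indep _ _ h1
  have hp0 : p = 0 := by
    rw [(mul_eq_zero.1 h2).resolve_right (pow_ne_zero _ X_ne_zero), map_zero] at hp
    exact (isUnit_T _).mul_left_eq_zero.1 hp.symm
  have hq0 : q = 0 := by
    rw [(mul_eq_zero.1 h3).resolve_right (pow_ne_zero _ X_ne_zero), map_zero] at hq
    exact (isUnit_T _).mul_left_eq_zero.1 hq.symm
  rw [hp0, hq0]; rfl

theorem mem_C_iff (c : K) : c ∈ C ↔ ∃ p q : k[T;T⁻¹], c = lau t D.ne_zero p + lau t D.ne_zero q * y := by
  rw [D.memC]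
  constructor
  · rintro ⟨m, hm⟩
    obtain ⟨p, q, h⟩ := (D.memA _).1 hm
    refine ⟨T (-(m : ℤ)) * toLaurent p, T (-(m : ℤ)) * toLaurent q, ?_⟩
    rw [map_mul, map_mul, lau_T, lau_toLaurent, lau_toLaurent, zpow_neg, zpow_natCast]
    have : t ^ m ≠ 0 := pow_ne_zero _ D.ne_zero
    field_simp
    linear_combination h
  · rintro ⟨p, q, rfl⟩
    obtain ⟨i, p', hp⟩ := exists_T_pow p
    obtain ⟨j, q', hq⟩ := exists_T_pow q
    refine ⟨i + j, (D.memA _).2 ⟨p' * X ^ j, q' * X ^ i, ?_⟩⟩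
    rw [map_mul, map_mul, ← lau_toLaurent t D.ne_zero, ← lau_toLaurent t D.ne_zero q', hp, hq, map_mul, map_mul, lau_T,
      lau_T, map_pow, map_pow, aeval_X, zpow_natCast, zpow_natCast]
    ring

theorem B_le : B ≤ C := fun a ha => (D.memC' a).2 ⟨0, by rwa [pow_zero, one_mul]⟩

theorem A_le : A ≤ C := fun a ha => (D.memC a).2 ⟨0, by rwa [pow_zero, one_mul]⟩

/-- The transition between the two bases. -/
theorem exists_transition : ∃ (c : k) (n : ℤ) (a : k[T;T⁻¹]), c ≠ 0 ∧
    y' = algebraMap k K c * t ^ (-n) * y + lau t D.ne_zero a := by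
  have hy : y' ∈ B := (D.memB _).2 ⟨0, 1, by simp⟩
  obtain ⟨a, u, hu⟩ := (D.mem_C_iff y').1 (D.B_le hy)
  have hyA : y ∈ A := (D.memA _).2 ⟨0, 1, by simp⟩
  obtain ⟨m, hm⟩ := (D.memC' y).1 (D.A_le hyA)
  obtain ⟨p, q, h⟩ := (D.memB _).1 hm
  obtain ⟨u', hu'⟩ : ∃ x : k[T;T⁻¹], x = T (m : ℤ) * invert (toLaurent q) := ⟨_, rfl⟩
  obtain ⟨a', ha'⟩ : ∃ x : k[T;T⁻¹], x = T (m : ℤ) * invert (toLaurent p) := ⟨_, rfl⟩
  have h' : y = lau t D.ne_zero a' + lau t D.ne_zero u' * y' := by
    rw [hu', ha', map_mul, map_mul, lau_T, lau_invert_toLaurent, lau_invert_toLaurent, zpow_natCast, mul_assoc, ← mul_add, ← h, ← mul_assoc,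
      ← mul_pow, mul_inv_cancel₀ D.ne_zero, one_pow, one_mul]
  have huu : u' * u = 1 := by
    have he : D.coord (a' + u' * a, u' * u) = D.coord (0, 1) := by
      simp only [D.coord_apply, map_add, map_mul, map_zero, map_one, zero_add, one_mul]
      linear_combination -(1 : K) * h' - lau t D.ne_zero u' * hu
    exact (Prod.ext_iff.1 (D.coord_injective he)).2
  obtain ⟨c, n, hc, hcn⟩ := exists_eq_C_mul_T_of_isUnit (IsUnit.of_mul_eq_one u' (by rw [mul_comm]; exact huu))
  refine ⟨c, -n, a, hc, ?_⟩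
  refine hu.trans ?_
  rw [hcn, map_mul, lau_C, lau_T, neg_neg, add_comm]

/-- Monomials in the sum of the two lattices. -/
theorem T_mem_sup (j : ℤ) : t ^ j ∈ A.toSubmodule ⊔ B.toSubmodule := by
  rcases le_total 0 j with hj | hj
  · obtain ⟨m, rfl⟩ := Int.eq_ofNat_of_zero_le hj
    exact Submodule.mem_sup_left ((D.memA _).2 ⟨X ^ m, 0, by simp⟩)
  · obtain ⟨m, rfl⟩ := Int.exists_eq_neg_ofNat hj
    exact Submodule.mem_sup_right ((D.memB _).2 ⟨X ^ m, 0, by simp⟩)

theorem lau_mem_sup (p : k[T;T⁻¹]) : lau t D.ne_zero p ∈ A.toSubmodule ⊔ B.toSubmodule := by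
  induction p using LaurentPolynomial.induction_on' with
  | add p q hp hq => rw [map_add]; exact add_mem hp hq
  | C_mul_T n a =>
    rw [map_mul, lau_C, lau_T, ← Algebra.smul_def]
    exact Submodule.smul_mem _ _ (D.T_mem_sup n)

/-- The cokernel of the two lattices in their common localisation. -/
theorem finrank_quotient {c : k} {n : ℤ} {a : k[T;T⁻¹]} (hc : c ≠ 0)
    (htr : y' = algebraMap k K c * t ^ (-n) * y + lau t D.ne_zero a) :
    Module.finrank k (C.toSubmodule ⧸ (A.toSubmodule ⊔ B.toSubmodule).comap C.toSubmodule.subtype) = (n - 1).toNat := by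
  classical
  have hC : C.toSubmodule = LinearMap.range D.coord := by
    ext z
    rw [Subalgebra.mem_toSubmodule, D.mem_C_iff, LinearMap.mem_range]
    exact ⟨fun ⟨p, q, h⟩ => ⟨(p, q), (D.coord_apply p q).trans h.symm⟩,
      fun ⟨⟨p, q⟩, h⟩ => ⟨p, q, (h.symm.trans (D.coord_apply p q))⟩⟩
  let S := Finset.Ioo (-n) (0 : ℤ)
  let e : (k[T;T⁻¹] × k[T;T⁻¹]) ≃ₗ[k] C.toSubmodule :=
    (LinearEquiv.ofInjective D.coord D.coord_injective).trans (LinearEquiv.ofEq _ _ hC.symm)
  let co : k[T;T⁻¹] →ₗ[k] ({j : ℤ // j ∈ S} → k) :=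
    { toFun := fun f j => f.coeff (j : ℤ)
      map_add' := fun f g => by ext; simp
      map_smul' := fun r f => by ext; simp }
  let Φ : C.toSubmodule →ₗ[k] ({j : ℤ // j ∈ S} → k) := (co ∘ₗ LinearMap.snd k _ _) ∘ₗ e.symm.toLinearMap
  have hΦ : ∀ (p q : k[T;T⁻¹]) (h : lau t D.ne_zero p + lau t D.ne_zero q * y ∈ C.toSubmodule) j,
      Φ ⟨_, h⟩ j = q.coeff (j : ℤ) := by
    intro p q h j
    have : (⟨_, h⟩ : C.toSubmodule) = e (p, q) := Subtype.ext rfl
    rw [this]
    simp only [Φ, LinearMap.comp_apply, LinearEquiv.coe_coe, LinearEquiv.symm_apply_apply]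
    rfl
  have hsurj : Function.Surjective Φ := fun v => by
    let q : k[T;T⁻¹] := AddMonoidAlgebra.ofCoeff
      (Finsupp.onFinset S (fun j => if h : j ∈ S then v ⟨j, h⟩ else 0) fun j hj => by by_contra h; exact hj (dif_neg h))
    refine ⟨e (0, q), funext fun j => ?_⟩
    simp only [Φ, LinearMap.comp_apply, LinearEquiv.coe_coe, LinearEquiv.symm_apply_apply]
    show q.coeff (j : ℤ) = v j
    simp [q, j.2]
  have hker : LinearMap.ker Φ = (A.toSubmodule ⊔ B.toSubmodule).comap C.toSubmodule.subtype := by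
    apply le_antisymm
    · rintro ⟨z, hz⟩ h
      obtain ⟨p, q, rfl⟩ := (D.mem_C_iff z).1 hz
      have hq : ∀ j ∈ S, q.coeff j = 0 := fun j hj => (hΦ p q hz ⟨j, hj⟩).symm.trans (congrFun h ⟨j, hj⟩)
      refine add_mem (D.lau_mem_sup p) ?_
      rw [← AddMonoidAlgebra.sum_coeff_single q, Finsupp.sum, map_sum, Finset.sum_mul]
      refine Submodule.sum_mem _ fun j hj => ?_
      rw [LaurentPolynomial.single_eq_C_mul_T, map_mul, lau_C, lau_T, mul_assoc, ← Algebra.smul_def]
      refine Submodule.smul_mem _ _ ?_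
      rcases le_or_gt 0 j with h0 | h0
      · obtain ⟨m, rfl⟩ := Int.eq_ofNat_of_zero_le h0
        exact Submodule.mem_sup_left ((D.memA _).2 ⟨0, X ^ m, by simp⟩)
      · have hjn : j ≤ -n := by
          by_contra hjn
          exact Finsupp.mem_support_iff.1 hj (hq j (Finset.mem_Ioo.2 ⟨not_le.1 hjn, h0⟩))
        obtain ⟨m, hm⟩ := Int.eq_ofNat_of_zero_le (show 0 ≤ -n - j by omega)
        have hmem : aeval t⁻¹ (Polynomial.C c⁻¹ * X ^ m) * y' ∈ A.toSubmodule ⊔ B.toSubmodule :=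
          Submodule.mem_sup_right ((D.memB _).2 ⟨0, Polynomial.C c⁻¹ * X ^ m, by simp⟩)
        have key : t ^ j * y = aeval t⁻¹ (Polynomial.C c⁻¹ * X ^ m) * y' -
            lau t D.ne_zero (invert (toLaurent (Polynomial.C c⁻¹ * X ^ m)) * a) := by
          have h1 : aeval t⁻¹ (Polynomial.C c⁻¹ * X ^ m) * (algebraMap k K c * t ^ (-n)) = t ^ j := by
            have hcK : algebraMap k K c ≠ 0 := (_root_.map_ne_zero _).2 hc
            rw [show j = -n + -(m : ℤ) by omega, zpow_add₀ D.ne_zero]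
            simp only [map_mul, map_pow, aeval_X, aeval_C, zpow_neg, zpow_natCast, map_inv₀, inv_pow]
            field_simp
          rw [map_mul (lau t D.ne_zero), lau_invert_toLaurent]
          linear_combination -(y * h1) - aeval t⁻¹ (Polynomial.C c⁻¹ * X ^ m) * htr
        rw [key]
        exact sub_mem hmem (D.lau_mem_sup _)
    · rintro ⟨z, hz⟩ h
      obtain ⟨z₁, h₁, z₂, h₂, rfl⟩ := Submodule.mem_sup.1 (show z ∈ A.toSubmodule ⊔ B.toSubmodule from h)
      obtain ⟨p, q, rfl⟩ := (D.memA z₁).1 h₁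
      obtain ⟨p', q', rfl⟩ := (D.memB z₂).1 h₂
      refine funext fun j => ?_
      have hj := Finset.mem_Ioo.1 j.2
      have he : aeval t p + aeval t q * y + (aeval t⁻¹ p' + aeval t⁻¹ q' * y') =
          lau t D.ne_zero (toLaurent p + invert (toLaurent p') + invert (toLaurent q') * a) +
            lau t D.ne_zero (toLaurent q + LaurentPolynomial.C c * (invert (toLaurent q') * T (-n))) * y := by
        simp only [map_add, map_mul, lau_toLaurent, lau_invert_toLaurent, lau_C, lau_T]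
        linear_combination aeval t⁻¹ q' * htr
      have hz' : lau t D.ne_zero (toLaurent p + invert (toLaurent p') + invert (toLaurent q') * a) +
          lau t D.ne_zero (toLaurent q + LaurentPolynomial.C c * (invert (toLaurent q') * T (-n))) * y ∈ C.toSubmodule :=
        he ▸ hz
      rw [show (⟨_, hz⟩ : C.toSubmodule) = ⟨_, hz'⟩ from Subtype.ext he, hΦ]
      show _ = (0 : k)
      have h1 : (toLaurent q : k[T;T⁻¹]).coeff (j : ℤ) = 0 := coeff_toLaurent_of_neg q hj.2
      have h2 : (LaurentPolynomial.C c * (invert (toLaurent q') * T (-n)) : k[T;T⁻¹]).coeff (j : ℤ) = 0 :=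
        coeff_invert_toLaurent_of_lt c q' hj.1
      rw [AddMonoidAlgebra.coeff_add, Finsupp.add_apply, h1, h2, add_zero]
  rw [← hker, (LinearMap.quotKerEquivOfSurjective Φ hsurj).finrank_eq, Module.finrank_fintype_fun_eq_card,
    Fintype.card_coe, Int.card_Ioo]
  congr 1
  omega

end Lattices

end Groth.Agent.H29DoubleCover
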