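import Groth.Agent.H29DoubleCover.Equation.Algebra

/-!
# The degrees in the equation of a double cover of the line
-/

set_option autoImplicit false

universe u v

namespace Groth.Agent.H29DoubleCover.Lattices

open Polynomial LaurentPolynomial
open scoped LaurentPolynomial

variable {k : Type u} [Field k] {K : Type v} [Field K] [Algebra k K]

theorem aeval_reflect {t : K} (ht : t ≠ 0) {N : ℕ} (p : k[X]) (hp : p.natDegree ≤ N) :
    aeval t⁻¹ (reflect N p) = aeval t p * t⁻¹ ^ N := by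
  haveI : Invertible t := invertibleOfNonzero ht
  have h := Polynomial.eval₂_reflect_mul_pow (algebraMap k K) t N p hp
  rw [invOf_eq_inv] at h
  rw [Polynomial.aeval_def, Polynomial.aeval_def, ← h, mul_assoc, ← mul_pow, mul_inv_cancel₀ ht, one_pow, mul_one]

theorem inj_inv {t : K} (hinj : Function.Injective (aeval t : k[X] →ₐ[k] K)) (ht : t ≠ 0) :
    Function.Injective (aeval t⁻¹ : k[X] →ₐ[k] K) := by
  refine (injective_iff_map_eq_zero _).2 fun p hp => ?_
  have h := aeval_reflect (t := t⁻¹) (inv_ne_zero ht) p le_rfl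
  rw [inv_inv, hp, zero_mul] at h
  exact reflect_eq_zero_iff.1 (hinj (h.trans (map_zero _).symm))

theorem natDegree_le_of_aeval {t : K} (hinj : Function.Injective (aeval t : k[X] →ₐ[k] K)) (ht : t ≠ 0) {N : ℕ}
    {p q : k[X]} (h : aeval t p = t ^ N * aeval t⁻¹ q) : p.natDegree ≤ N := by
  by_contra hlt
  have hd : q * X ^ (p.natDegree - N) = reflect p.natDegree p := by
    refine inj_inv hinj ht ?_
    rw [aeval_reflect ht p le_rfl, map_mul, map_pow, aeval_X, h]
    have hN : (t⁻¹ : K) ^ p.natDegree = t⁻¹ ^ N * t⁻¹ ^ (p.natDegree - N) := by rw [← pow_add]; congr 1; omega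
    have hone : t ^ N * t⁻¹ ^ N = 1 := by rw [← mul_pow, mul_inv_cancel₀ ht, one_pow]
    rw [hN]
    linear_combination -(aeval t⁻¹ q * t⁻¹ ^ (p.natDegree - N)) * hone
  have h0 := congrArg (fun f : k[X] => f.coeff 0) hd
  simp only [coeff_reflect, revAt_le (Nat.zero_le p.natDegree), Nat.sub_zero] at h0
  rw [coeff_mul_X_pow', if_neg (by omega)] at h0
  have hp0 : p = 0 := leadingCoeff_eq_zero.1 h0.symm
  rw [hp0, natDegree_zero] at hlt
  exact hlt (Nat.zero_le _)

theorem exists_split (t : K) (ht : t ≠ 0) (a : k[T;T⁻¹]) :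
    ∃ p₁ p₂ : k[X], lau t ht a = aeval t p₁ + aeval t⁻¹ p₂ := by
  induction a using LaurentPolynomial.induction_on' with
  | add f g hf hg =>
    obtain ⟨p₁, p₂, h⟩ := hf
    obtain ⟨q₁, q₂, h'⟩ := hg
    exact ⟨p₁ + q₁, p₂ + q₂, by rw [map_add, map_add, map_add, h, h']; ring⟩
  | C_mul_T m r =>
    rcases le_total 0 m with hm | hm
    · obtain ⟨i, rfl⟩ := Int.eq_ofNat_of_zero_le hm
      exact ⟨Polynomial.C r * X ^ i, 0, by simp [lau_C, lau_T]⟩
    · obtain ⟨i, rfl⟩ := Int.exists_eq_neg_ofNat hm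
      exact ⟨0, Polynomial.C r * X ^ i, by simp [lau_C, lau_T]⟩

variable {t y y' : K} {A B C : Subalgebra k K}

/-- Change of basis. -/
theorem shift (D : Lattices t y y' A B C) (r r' : k[X]) (c : k) (hc : c ≠ 0) :
    Lattices t (y + aeval t r) (algebraMap k K c * y' + aeval t⁻¹ r') A B C := by
  have hcK : algebraMap k K c ≠ 0 := (_root_.map_ne_zero _).2 hc
  refine ⟨D.inj, fun p q h => ?_, fun p q h => ?_, fun a => ?_, fun a => ?_, D.memC, D.memC'⟩
  · obtain ⟨h1, h2⟩ := D.indep (p + q * r) q (by rw [map_add, map_mul]; linear_combination h)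
    rw [h2, zero_mul, add_zero] at h1
    exact ⟨h1, h2⟩
  · obtain ⟨h1, h2⟩ := D.indep' (p + q * r') (q * Polynomial.C c) (by
      rw [map_add, map_mul, map_mul, aeval_C]; linear_combination h)
    have hq : q = 0 := (mul_eq_zero.1 h2).resolve_right (Polynomial.C_ne_zero.2 hc)
    rw [hq, zero_mul, add_zero] at h1
    exact ⟨h1, hq⟩
  · rw [D.memA]
    constructor
    · rintro ⟨p, q, rfl⟩
      exact ⟨p - q * r, q, by rw [map_sub, map_mul]; ring⟩
    · rintro ⟨p, q, rfl⟩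
      exact ⟨p + q * r, q, by rw [map_add, map_mul]; ring⟩
  · rw [D.memB]
    constructor
    · rintro ⟨p, q, rfl⟩
      refine ⟨p - q * Polynomial.C c⁻¹ * r', q * Polynomial.C c⁻¹, ?_⟩
      rw [map_sub, map_mul, map_mul, aeval_C, map_inv₀]
      field_simp
      ring
    · rintro ⟨p, q, rfl⟩
      exact ⟨p + q * r', q * Polynomial.C c, by rw [map_add, map_mul, map_mul, aeval_C]; ring⟩

/-- The normal form of the two bases. -/
theorem exists_normal (D : Lattices t y y' A B C) (g : ℕ) (hg : 1 ≤ g)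
    (hfr : Module.finrank k (C.toSubmodule ⧸ (A.toSubmodule ⊔ B.toSubmodule).comap C.toSubmodule.subtype) = g) :
    ∃ y₀ : K, Lattices t y₀ (t⁻¹ ^ (g + 1) * y₀) A B C := by
  obtain ⟨c, n, a, hc, htr⟩ := D.exists_transition
  rw [D.finrank_quotient hc htr] at hfr
  have hn : n = ((g + 1 : ℕ) : ℤ) := by omega
  subst hn
  rw [zpow_neg, zpow_natCast, ← inv_pow] at htr
  obtain ⟨p₁, p₂, ha⟩ := exists_split t D.ne_zero a
  have hcK : algebraMap k K c ≠ 0 := (_root_.map_ne_zero _).2 hc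
  refine ⟨y + aeval t (Polynomial.C c⁻¹ * X ^ (g + 1) * p₁), ?_⟩
  have h' := D.shift (Polynomial.C c⁻¹ * X ^ (g + 1) * p₁) (-(Polynomial.C c⁻¹ * p₂)) c⁻¹ (inv_ne_zero hc)
  convert h' using 1
  rw [htr, ha, map_neg]
  simp only [map_mul, map_pow, aeval_X, aeval_C, map_inv₀]
  have hone : t⁻¹ ^ (g + 1) * t ^ (g + 1) = 1 := by rw [← mul_pow, inv_mul_cancel₀ D.ne_zero, one_pow]
  field_simp
  ring_nf
  linear_combination aeval t p₁ * hone

/-- The bounds on the equation. -/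
theorem degree_bounds {n : ℕ} (hn : 1 ≤ n) (D : Lattices t y (t⁻¹ ^ n * y) A B C)
    (hint : ∀ z : K, ∀ b₁ b₀ : K, b₁ ∈ B → b₀ ∈ B → z ^ 2 + b₁ * z = b₀ → z ∈ B)
    {P Q : k[X]} (h : y ^ 2 + aeval t Q * y = aeval t P) :
    2 * n - 1 ≤ max (2 * Q.natDegree) P.natDegree ∧ max (2 * Q.natDegree) P.natDegree ≤ 2 * n := by
  have ht := D.ne_zero
  have hone : t ^ n * t⁻¹ ^ n = 1 := by rw [← mul_pow, mul_inv_cancel₀ ht, one_pow]
  have hy' : t⁻¹ ^ n * y ∈ B := (D.memB _).2 ⟨0, 1, by simp⟩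
  obtain ⟨p', q', hpq⟩ := (D.memB _).1 (mul_mem hy' hy')
  have he : D.coord (toLaurent P, -toLaurent Q) =
      D.coord (T ((2 * n : ℕ) : ℤ) * invert (toLaurent p'), T ((n : ℕ) : ℤ) * invert (toLaurent q')) := by
    rw [D.coord_apply, D.coord_apply, map_neg, map_mul, map_mul, lau_T, lau_T, lau_toLaurent, lau_toLaurent,
      lau_invert_toLaurent, lau_invert_toLaurent, zpow_natCast, zpow_natCast, two_mul n, pow_add]
    linear_combination (t ^ n * t ^ n) * hpq - h
      - (y * y) * (t⁻¹ ^ n * t ^ n + 1) * hone + (t ^ n * aeval t⁻¹ q' * y) * hone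
  obtain ⟨he1, he2⟩ := Prod.ext_iff.1 (D.coord_injective he)
  have hP : P.natDegree ≤ 2 * n := natDegree_le_of_aeval D.inj ht (q := p') (by
    have := congrArg (lau t ht) he1
    rwa [map_mul, lau_T, lau_toLaurent, lau_invert_toLaurent, zpow_natCast] at this)
  have hQ : (-Q).natDegree ≤ n := natDegree_le_of_aeval D.inj ht (q := q') (by
    have := congrArg (lau t ht) he2
    simp only [map_neg, map_mul, lau_T, lau_toLaurent, lau_invert_toLaurent, zpow_natCast] at this ⊢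
    exact this)
  rw [natDegree_neg] at hQ
  refine ⟨?_, max_le (by omega) hP⟩
  by_contra hlt
  have hP' : P.natDegree ≤ 2 * n - 2 := by omega
  have hQ' : Q.natDegree ≤ n - 1 := by omega
  have hz : t⁻¹ ^ (n - 1) * y ∈ B := hint _ (aeval t⁻¹ (reflect (n - 1) Q)) (aeval t⁻¹ (reflect (2 * n - 2) P))
    ((D.memB _).2 ⟨reflect (n - 1) Q, 0, by simp⟩) ((D.memB _).2 ⟨reflect (2 * n - 2) P, 0, by simp⟩) (by
      rw [aeval_reflect ht Q hQ', aeval_reflect ht P hP', show 2 * n - 2 = (n - 1) + (n - 1) by omega, pow_add]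
      linear_combination (t⁻¹ ^ (n - 1) * t⁻¹ ^ (n - 1)) * h)
  obtain ⟨p, q, hpq'⟩ := (D.memB _).1 hz
  have hn' : t⁻¹ ^ n = t⁻¹ * t⁻¹ ^ (n - 1) := by rw [← pow_succ']; congr 1; omega
  have hb := D.indep' (X * p) (X * q - 1) (by
    rw [map_sub, map_one, map_mul, map_mul, aeval_X]
    linear_combination -(t⁻¹) * hpq' - y * hn')
  exact not_isUnit_X (IsUnit.of_mul_eq_one q (sub_eq_zero.1 hb.2))

end Groth.Agent.H29DoubleCover.Lattices
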