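import Groth.Agent.H29DoubleCover.Equation.Cover
import Groth.Agent.LeadBC.Cech

/-!
# The genus from two affine charts
-/

set_option autoImplicit false
set_option linter.style.haveILetI false

universe u

open CategoryTheory CategoryTheory.Limits AlgebraicGeometry TopologicalSpace Opposite
open Groth.Agent.H15Site

namespace Groth.Agent.H29DoubleCover

attribute [local instance 10000] H10Coh.hasSheafifyAb H10Coh.hasWeakSheafifyAb H10Coh.hasExtAb H10Coh.enoughInjAb
attribute [local instance] Curv2.stalkAlgebra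

variable {k : Type u} [Field k] {X : Scheme.{u}} [X.Over (Spec (CommRingCat.of k))] [IsIntegral X]

theorem genericPoint_mem_cap {ι : Type u} (U : ι → X.Opens) (hU : ∀ i, genericPoint X ∈ U i) {n : ℕ}
    (a : Fin (n + 1) → ι) : genericPoint X ∈ CechTop.cap U a := by
  show genericPoint X ∈ ⨅ l, U (a l)
  rw [← Finset.inf_univ_eq_iInf]
  exact Finset.inf_induction (p := fun W : X.Opens => genericPoint X ∈ W) trivial (fun _ h _ h' => ⟨h, h'⟩) fun l _ => hU _

/-- Cochains as families of rational functions. -/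
noncomputable def ratFun {ι : Type u} (U : ι → X.Opens) (hU : ∀ i, genericPoint X ∈ U i) (n : ℕ) :
    LeadBC.Kp k U (Coh.structureModule X) n →ₗ[k] ((Fin (n + 1) → ι) → X.functionField) where
  toFun x a := X.presheaf.germ (CechTop.cap U a) (genericPoint X) (genericPoint_mem_cap U hU a) (show Γ(X, CechTop.cap U a) from x a)
  map_add' x y := funext fun a => map_add _ (show Γ(X, CechTop.cap U a) from x a) (show Γ(X, CechTop.cap U a) from y a)
  map_smul' c x := funext fun a => by
    show X.presheaf.germ _ _ _ (LeadFF.scal (X ↘ Spec (CommRingCat.of k)) (CechTop.cap U a) c * (show Γ(X, CechTop.cap U a) from x a)) = _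
    rw [map_mul, germ_scal]
    exact (Algebra.smul_def _ _).symm

theorem ratFun_injective {ι : Type u} (U : ι → X.Opens) (hU : ∀ i, genericPoint X ∈ U i) (n : ℕ) :
    Function.Injective (ratFun (k := k) U hU n) := fun x y h => funext fun a => by
  haveI : Nonempty (CechTop.cap U a : X.Opens) := ⟨⟨_, genericPoint_mem_cap U hU a⟩⟩
  exact X.germToFunctionField_injective (CechTop.cap U a) (congrFun h a)

theorem ratFun_mem {ι : Type u} (U : ι → X.Opens) (hU : ∀ i, genericPoint X ∈ U i) (n : ℕ)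
    (x : LeadBC.Kp k U (Coh.structureModule X) n) (a : Fin (n + 1) → ι) :
    ratFun U hU n x a ∈ secSub (k := k) (CechTop.cap U a) (genericPoint_mem_cap U hU a) := ⟨_, rfl⟩

theorem exists_ratFun_eq {ι : Type u} (U : ι → X.Opens) (hU : ∀ i, genericPoint X ∈ U i) (n : ℕ)
    (v : (Fin (n + 1) → ι) → X.functionField)
    (hv : ∀ a, v a ∈ secSub (k := k) (CechTop.cap U a) (genericPoint_mem_cap U hU a)) :
    ∃ x, ratFun (k := k) U hU n x = v := by
  choose s hs using hv
  exact ⟨fun a => s a, funext hs⟩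

theorem ratFun_dK {ι : Type u} (U : ι → X.Opens) (hU : ∀ i, genericPoint X ∈ U i) (n : ℕ)
    (x : LeadBC.Kp k U (Coh.structureModule X) n) (c : Fin (n + 1 + 1) → ι) :
    ratFun U hU (n + 1) (LeadBC.dK k U (Coh.structureModule X) n x) c =
      ∑ j : Fin (n + 2), ((-1 : ℤ) ^ (j : ℕ)) • ratFun U hU n x (c ∘ j.succAbove) := by
  show X.presheaf.germ _ _ _ (show Γ(X, CechTop.cap U c) from LeadBC.dK k U _ n x c) = _
  rw [LeadBC.dK_apply]
  erw [map_sum]
  refine Finset.sum_congr rfl fun j _ => ?_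
  erw [map_zsmul]
  congr 1
  exact X.presheaf.germ_res_apply (homOfLE (CechTop.cap_comp_le U c j.succAbove)) _ (genericPoint_mem_cap U hU c) _

theorem secSub_mono {V W : X.Opens} (h : W ≤ V) (hW : genericPoint X ∈ W) :
    secSub (k := k) V (h hW) ≤ secSub W hW := fun z ⟨s, hs⟩ =>
  ⟨X.presheaf.map (homOfLE h).op s, (X.presheaf.germ_res_apply (homOfLE h) (genericPoint X) hW s).trans hs⟩

variable [IsProper (X ↘ Spec (CommRingCat.of k))]

/-- The genus is the cokernel of the functions on two affine charts. -/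
theorem genus_two_cover (U : Fin 2 → X.Opens) (hU : ∀ i, genericPoint X ∈ U i) (haff : ∀ i, IsAffineOpen (U i))
    (hcov : ∀ x : X, x ∈ U 0 ∨ x ∈ U 1) :
    let A := secSub (k := k) (U 0) (hU 0)
    let B := secSub (k := k) (U 1) (hU 1)
    let C := secSub (k := k) (U 0 ⊓ U 1) ⟨hU 0, hU 1⟩
    Module.finrank k (C.toSubmodule ⧸ (A.toSubmodule ⊔ B.toSubmodule).comap C.toSubmodule.subtype) =
      Curv2.genus k X := by
  intro A B C
  classical
  haveI : X.IsSeparated := by
    haveI : IsSeparated (X ↘ Spec (CommRingCat.of k) ≫ terminal.from (Spec (CommRingCat.of k))) := inferInstance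
    exact ⟨by rwa [terminal.comp_from] at this⟩
  haveI : (Coh.structureModule X).IsQuasicoherent := H10Coh.isQuasicoherent_unit
  let V : ULift.{u} (Fin 2) → X.Opens := fun i => U i.down
  have hV : ∀ i, genericPoint X ∈ V i := fun i => hU i.down
  have hsubset : ∀ {n : ℕ} (a : Fin (n + 1) → ULift.{u} (Fin 2)),
      CechTop.cap V a = U 0 ∨ CechTop.cap V a = U 1 ∨ CechTop.cap V a = U 0 ⊓ U 1 := by
    intro n a
    have two : ∀ i : Fin 2, i = 0 ∨ i = 1 := by decide
    by_cases h0 : ∃ l, (a l).down = 0 <;> by_cases h1 : ∃ l, (a l).down = 1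
    · obtain ⟨l, hl⟩ := h0
      obtain ⟨m, hm⟩ := h1
      refine Or.inr (Or.inr (le_antisymm (le_inf ((iInf_le _ l).trans_eq (by show U (a l).down = _; rw [hl]))
        ((iInf_le _ m).trans_eq (by show U (a m).down = _; rw [hm]))) (le_iInf fun j => ?_)))
      rcases two (a j).down with h | h
      · exact inf_le_left.trans_eq (congrArg U h.symm)
      · exact inf_le_right.trans_eq (congrArg U h.symm)
    · have h : ∀ l, (a l).down = 0 := fun l => (two (a l).down).resolve_right fun h => h1 ⟨l, h⟩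
      exact Or.inl (le_antisymm ((iInf_le _ 0).trans_eq (congrArg U (h 0))) (le_iInf fun l => (congrArg U (h l)).ge))
    · have h : ∀ l, (a l).down = 1 := fun l => (two (a l).down).resolve_left fun h => h0 ⟨l, h⟩
      exact Or.inr (Or.inl (le_antisymm ((iInf_le _ 0).trans_eq (congrArg U (h 0))) (le_iInf fun l => (congrArg U (h l)).ge)))
    · exact absurd (two (a 0).down) (by rintro (h | h); exacts [h0 ⟨0, h⟩, h1 ⟨0, h⟩])
  have hG : LeadBC.GoodCover V :=
    ⟨fun n a => by
      rcases hsubset a with h | h | h <;> rw [h]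
      exacts [haff 0, haff 1, (haff 0).inf (haff 1)],
     fun x _ => by
      rcases hcov x with h | h
      · exact Opens.mem_iSup.2 ⟨⟨0⟩, h⟩
      · exact Opens.mem_iSup.2 ⟨⟨1⟩, h⟩⟩
  let K := LeadBC.KC k V (Coh.structureModule X)
  let o : Fin 2 → ULift.{u} (Fin 2) := fun i => ⟨i⟩
  let ε := fun n => ratFun (k := k) V hV n
  have hcap : ∀ a : Fin (0 + 1) → ULift.{u} (Fin 2), CechTop.cap V a = U (a 0).down := fun a =>
    le_antisymm (iInf_le _ 0) (le_iInf fun l => by rw [Fin.eq_zero l])
  have hcap2 : CechTop.cap V ![o 0, o 1] = U 0 ⊓ U 1 :=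
    le_antisymm (le_inf (iInf_le _ 0) (iInf_le _ 1)) (le_iInf fun l => by
      fin_cases l
      · exact inf_le_left
      · exact inf_le_right)
  have hCeq : secSub (k := k) (CechTop.cap V ![o 0, o 1]) (genericPoint_mem_cap V hV _) = C := secSub_congr hcap2 _ _
  have hd1 : ∀ x : LeadBC.Kp k V (Coh.structureModule X) 1, LeadBC.dK k V _ 1 x = 0 ↔
      ∀ i j l : ULift.{u} (Fin 2), ε 1 x ![j, l] - ε 1 x ![i, l] + ε 1 x ![i, j] = 0 := fun x => by
    have key : ∀ c : Fin 3 → ULift.{u} (Fin 2), ε 2 (LeadBC.dK k V _ 1 x) c =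
        ε 1 x ![c 1, c 2] - ε 1 x ![c 0, c 2] + ε 1 x ![c 0, c 1] := fun c => by
      rw [show ε 2 = ratFun V hV (1 + 1) from rfl, ratFun_dK, Fin.sum_univ_three,
        show (c ∘ (0 : Fin 3).succAbove : Fin 2 → _) = ![c 1, c 2] from funext fun l => by fin_cases l <;> rfl,
        show (c ∘ (1 : Fin 3).succAbove : Fin 2 → _) = ![c 0, c 2] from funext fun l => by fin_cases l <;> rfl,
        show (c ∘ (2 : Fin 3).succAbove : Fin 2 → _) = ![c 0, c 1] from funext fun l => by fin_cases l <;> rfl]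
      simp [ε, sub_eq_add_neg]
    constructor
    · intro h i j l
      have := key ![i, j, l]
      rw [h, map_zero] at this
      exact this.symm
    · intro h
      refine ratFun_injective V hV 2 (funext fun c => ?_)
      rw [map_zero]
      exact (key c).trans (h _ _ _)
  have hd0 : ∀ (x : LeadBC.Kp k V (Coh.structureModule X) 0) (i j : ULift.{u} (Fin 2)),
      ε 1 (LeadBC.dK k V _ 0 x) ![i, j] = ε 0 x ![j] - ε 0 x ![i] := fun x i j => by
    rw [show ε 1 = ratFun V hV (0 + 1) from rfl, ratFun_dK, Fin.sum_univ_two,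
      show (![i, j] ∘ (0 : Fin 2).succAbove : Fin 1 → _) = ![j] from funext fun l => by fin_cases l; rfl,
      show (![i, j] ∘ (1 : Fin 2).succAbove : Fin 1 → _) = ![i] from funext fun l => by fin_cases l; rfl]
    simp [ε, sub_eq_add_neg]
  let Ψ₀ : LeadBC.Kp k V (Coh.structureModule X) 1 →ₗ[k] C.toSubmodule :=
    LinearMap.codRestrict C.toSubmodule ((LinearMap.proj ![o 0, o 1]) ∘ₗ ε 1)
      fun x => (SetLike.ext_iff.1 hCeq _).1 (ratFun_mem V hV 1 x ![o 0, o 1])
  let N := (A.toSubmodule ⊔ B.toSubmodule).comap C.toSubmodule.subtype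
  have hnext := CochainComplex.next ℕ 1
  let Z := LinearMap.ker (K.d 1 (1 + 1)).hom
  let Ψ : Z →ₗ[k] C.toSubmodule ⧸ N := N.mkQ ∘ₗ Ψ₀ ∘ₗ Z.subtype
  have hKd : ∀ p, (K.d p (p + 1)).hom = LeadBC.dK k V (Coh.structureModule X) p := fun p => by
    rw [show K.d p (p + 1) = _ from LeadBC.KC_d k V (Coh.structureModule X) p]; rfl
  have hZ : ∀ x : Z, LeadBC.dK k V _ 1 (x.1 : LeadBC.Kp k V (Coh.structureModule X) 1) = 0 := fun x => by
    rw [← hKd]; exact x.2
  have hrel : ∀ x : Z, ∀ i j, ε 1 x.1 ![i, i] = 0 ∧ ε 1 x.1 ![j, i] = - ε 1 x.1 ![i, j] := fun x i j => by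
    have h := (hd1 x.1).1 (hZ x)
    have h1 : ε 1 x.1 ![i, i] = 0 := by linear_combination h i i i
    refine ⟨h1, ?_⟩
    linear_combination h i j i + h1
  have hker : LinearMap.ker Ψ = LinearMap.ker (H06FlatCx.cls K hnext) := by
    ext x
    rw [LinearMap.mem_ker, LinearMap.mem_ker, H06FlatCx.cls_eq_zero_iff K (CochainComplex.prev_nat_succ 0) hnext]
    show N.mkQ (Ψ₀ x.1) = 0 ↔ _
    rw [Submodule.mkQ_apply, Submodule.Quotient.mk_eq_zero]
    change ε 1 x.1 ![o 0, o 1] ∈ A.toSubmodule ⊔ B.toSubmodule ↔ _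
    constructor
    · intro h
      obtain ⟨a, ha, b, hb, hab⟩ := Submodule.mem_sup.1 h
      obtain ⟨w, hw⟩ := exists_ratFun_eq (k := k) V hV 0 (fun c => if (c 0).down = 0 then -a else b) (fun c => by
        rw [secSub_congr (hcap c) _ (hU _)]
        rcases (show ∀ i : Fin 2, i = 0 ∨ i = 1 by decide) (c 0).down with h | h
        · rw [if_pos h, secSub_congr (congrArg U h) _ (hU 0)]; exact neg_mem ha
        · rw [if_neg (by rw [h]; decide), secSub_congr (congrArg U h) _ (hU 1)]; exact hb)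
      refine ⟨w, ?_⟩
      rw [hKd]
      refine ratFun_injective V hV 1 (funext fun c => ?_)
      obtain ⟨i, j, rfl⟩ : ∃ i j, c = ![i, j] := ⟨c 0, c 1, funext fun l => by fin_cases l <;> rfl⟩
      refine (hd0 w i j).trans ?_
      change ratFun V hV 0 w ![j] - ratFun V hV 0 w ![i] = ε 1 x.1 ![i, j]
      rw [hw]
      obtain ⟨i⟩ := i
      obtain ⟨j⟩ := j
      have hr00 := (hrel x (o 0) (o 0)).1
      have hr11 := (hrel x (o 1) (o 1)).1
      have hr10 := (hrel x (o 0) (o 1)).2
      fin_cases i <;> fin_cases j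
      · simpa [o] using hr00.symm
      · simp only [o] at hab ⊢
        simp
        linear_combination hab
      · simp only [o] at hab hr10 ⊢
        simp
        linear_combination -hab - hr10
      · simpa [o] using hr11.symm
    · rintro ⟨w, hw⟩
      rw [hKd] at hw
      have hw' : x.1 = LeadBC.dK k V _ 0 w := hw.symm
      rw [hw', hd0]
      have h0 := ratFun_mem (k := k) V hV 0 w ![o 0]
      have h1 := ratFun_mem (k := k) V hV 0 w ![o 1]
      rw [secSub_congr (hcap ![o 0]) _ (hU _)] at h0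
      rw [secSub_congr (hcap ![o 1]) _ (hU _)] at h1
      exact sub_mem (Submodule.mem_sup_right h1) (Submodule.mem_sup_left h0)
  have hsurj : Function.Surjective Ψ := fun q => by
    obtain ⟨⟨z, hz⟩, rfl⟩ := Submodule.mkQ_surjective N q
    obtain ⟨x, hx⟩ := exists_ratFun_eq (k := k) V hV 1
      (fun c => if c 0 = o 0 ∧ c 1 = o 1 then z else if c 0 = o 1 ∧ c 1 = o 0 then -z else 0) (fun c => by
        split_ifs with h1 h2
        · obtain rfl : c = ![o 0, o 1] := funext fun l => by fin_cases l; exacts [h1.1, h1.2]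
          exact (SetLike.ext_iff.1 hCeq _).2 hz
        · obtain rfl : c = ![o 1, o 0] := funext fun l => by fin_cases l; exacts [h2.1, h2.2]
          rw [secSub_congr (show CechTop.cap V ![o 1, o 0] = U 0 ⊓ U 1 from le_antisymm
            (le_inf (iInf_le _ 1) (iInf_le _ 0)) (le_iInf fun l => by
              fin_cases l
              · exact inf_le_right
              · exact inf_le_left)) _ ⟨hU 0, hU 1⟩]
          exact neg_mem hz
        · exact zero_mem _)
    have hx0 : x ∈ Z := by
      show (K.d 1 (1 + 1)).hom x = 0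
      rw [hKd]
      refine (hd1 x).2 fun i j l => ?_
      simp only [ε, hx]
      obtain ⟨i⟩ := i
      obtain ⟨j⟩ := j
      obtain ⟨l⟩ := l
      fin_cases i <;> fin_cases j <;> fin_cases l <;> simp [o]
    refine ⟨⟨x, hx0⟩, congrArg N.mkQ (Subtype.ext ?_)⟩
    show ε 1 x ![o 0, o 1] = z
    simp only [ε, hx]
    simp [o]
  let e1 := (LinearMap.quotKerEquivOfSurjective Ψ hsurj).symm ≪≫ₗ Submodule.quotEquivOfEq _ _ hker ≪≫ₗ
    LinearMap.quotKerEquivOfSurjective _ (H06FlatCx.cls_surjective K hnext) ≪≫ₗ LeadBC.eHH k hG (Coh.structureModule X) 1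
  exact e1.finrank_eq

end Groth.Agent.H29DoubleCover
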