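import Groth.Agent.H10Coh.Pn.Global
import Groth.Agent.H11Proj.ProjSpace
import Groth.Agent.H11Tilde.GammaStar.Ratio
import Groth.Agent.H11Tilde.ProjHom
import Groth.Agent.LeadFF.BaseChange
import Groth.Prelude.Def_LefPen

/-!
# The two charts of the projective line
-/

set_option autoImplicit false
set_option linter.style.haveILetI false

universe u

open CategoryTheory AlgebraicGeometry TopologicalSpace
open Groth.Agent.H11Tilde

namespace Groth.Agent.H29DoubleCover

variable (k : Type u) [Field k]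

local notation "ℙ¹" => CohB1.ProjSpace 1 k
local notation "𝒜" => CohB1.polyGrading 1 k

/-- The coordinate `T_j / T_i` on the chart at `i`. -/
noncomputable def coordFun (i j : Fin (1 + 1)) : Γ(ℙ¹, LefPen.chart 1 k i) :=
  ratio 𝒜 (LefPen.X_mem 1 k i) (LefPen.X_mem 1 k j)

theorem isAffineOpen_chart (i : Fin (1 + 1)) : IsAffineOpen (LefPen.chart 1 k i) :=
  Proj.isAffineOpen_basicOpen 𝒜 _ (LefPen.X_mem 1 k i) one_pos

/-- The functions on a chart are the polynomials in its coordinate. -/
theorem exists_chartPoly (i j : Fin (1 + 1)) (hij : j ≠ i) :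
    ∃ ρ : Polynomial k →+* Γ(ℙ¹, LefPen.chart 1 k i), Function.Bijective ρ ∧ ρ Polynomial.X = coordFun k i j ∧
      ∀ c, ρ (Polynomial.C c) = LeadFF.scal (CohB1.ProjSpace.toSpec 1 k) (LefPen.chart 1 k i) c := by
  haveI : IsIso (Proj.awayToSection 𝒜 (MvPolynomial.X i)) :=
    (Proj.basicOpenIsoAway 𝒜 (MvPolynomial.X i) (LefPen.X_mem 1 k i) one_pos).isIso_hom
  letI : Unique {l : Fin (1 + 1) // l ≠ i} :=
    { default := ⟨j, hij⟩
      uniq := fun l => Subtype.ext (by
        obtain ⟨l, hl⟩ := l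
        show l = j
        omega) }
  let e := (MvPolynomial.uniqueAlgEquiv k {l : Fin (1 + 1) // l ≠ i}).symm
  let σ := (Proj.awayToSection 𝒜 (MvPolynomial.X i)).hom.comp
    ((H11Proj.ProjSpace.chartMap 1 k i).comp e.toRingEquiv.toRingHom)
  refine ⟨σ, (ConcreteCategory.bijective_of_isIso (Proj.awayToSection 𝒜 (MvPolynomial.X i))).comp
    ((H11Proj.ProjSpace.chartMap_bijective 1 k i).comp e.bijective), ?_, fun c => ?_⟩
  · show Proj.awayToSection 𝒜 (MvPolynomial.X i) (H11Proj.ProjSpace.chartMap 1 k i (e Polynomial.X)) = _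
    have he : e Polynomial.X = MvPolynomial.X ⟨j, hij⟩ := by
      rw [AlgEquiv.symm_apply_eq]
      simp [show (⟨j, hij⟩ : {l : Fin (1 + 1) // l ≠ i}) = default from rfl]
    rw [he, H11Proj.ProjSpace.chartMap, MvPolynomial.eval₂Hom_X', coordFun, ratio]
    congr 1
    apply HomogeneousLocalization.val_injective
    rw [HomogeneousLocalization.val_mk, HomogeneousLocalization.Away.val_mk]
    congr 1
    exact Subtype.ext (pow_one _).symm
  · show Proj.awayToSection 𝒜 (MvPolynomial.X i) (H11Proj.ProjSpace.chartMap 1 k i (e (Polynomial.C c))) = _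
    have he : e (Polynomial.C c) = MvPolynomial.C c := e.commutes c
    rw [he, H11Proj.ProjSpace.chartMap, MvPolynomial.eval₂Hom_C]
    exact (H10Coh.Pn.constΓ_awayToSection (LefPen.X_mem 1 k i) one_pos c).symm

/-- The overlap of the two charts. -/
theorem basicOpen_coordFun (i j : Fin (1 + 1)) :
    (ℙ¹).basicOpen (coordFun k i j) = LefPen.chart 1 k i ⊓ LefPen.chart 1 k j :=
  basicOpen_ratio_deg1 𝒜 (LefPen.X_mem 1 k i) (LefPen.X_mem 1 k j)

/-- The two coordinates are inverse to each other. -/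
theorem coordFun_mul (i j : Fin (1 + 1)) {V : (ℙ¹).Opens} (hi : V ≤ LefPen.chart 1 k i) (hj : V ≤ LefPen.chart 1 k j) :
    (ℙ¹).presheaf.map (homOfLE hi).op (coordFun k i j) * (ℙ¹).presheaf.map (homOfLE hj).op (coordFun k j i) = 1 := by
  have h := res_ratio 𝒜 (f := MvPolynomial.X i) (LefPen.X_mem 1 k i) (LefPen.X_mem 1 k j) (LefPen.X_mem 1 k j) hi hj
  rw [ratio_self, map_one, pow_one] at h
  rw [mul_comm]
  exact h.symm

end Groth.Agent.H29DoubleCover
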