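import Groth.Agent.H29DoubleCover.Equation.FieldFacts

/-!
# The chart of a double cover as an affine plane curve
-/

set_option autoImplicit false
set_option linter.style.haveILetI false

universe u

open CategoryTheory AlgebraicGeometry TopologicalSpace

namespace Groth.Agent.H29DoubleCover

attribute [local instance] Curv2.stalkAlgebra

variable {k : Type u} [Field k]

/-- Reduction modulo a monic quadratic equation. -/
theorem exists_reduction (P Q : Polynomial k) (F : MvPolynomial (Fin 2) k) :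
    ∃ a b : Polynomial k, F - (Polynomial.aeval (MvPolynomial.X 0) a +
        Polynomial.aeval (MvPolynomial.X 0) b * MvPolynomial.X 1) ∈
      Ideal.span {(MvPolynomial.X 1 : MvPolynomial (Fin 2) k) ^ 2 + Polynomial.aeval (MvPolynomial.X 0) Q * MvPolynomial.X 1 -
        Polynomial.aeval (MvPolynomial.X 0) P} := by
  induction F using MvPolynomial.induction_on with
  | C c => exact ⟨Polynomial.C c, 0, by simp [← MvPolynomial.algebraMap_eq]⟩
  | add p q hp hq =>
    obtain ⟨a, b, h⟩ := hp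
    obtain ⟨a', b', h'⟩ := hq
    refine ⟨a + a', b + b', ?_⟩
    convert add_mem h h' using 1
    rw [map_add, map_add]; ring
  | mul_X p i hp =>
    obtain ⟨a, b, h⟩ := hp
    rcases (show ∀ i : Fin 2, i = 0 ∨ i = 1 by decide) i with rfl | rfl
    · refine ⟨a * Polynomial.X, b * Polynomial.X, ?_⟩
      convert Ideal.mul_mem_right (MvPolynomial.X (0 : Fin 2)) _ h using 1
      rw [map_mul, map_mul, Polynomial.aeval_X]; ring
    · refine ⟨b * P, a - b * Q, ?_⟩
      convert add_mem (Ideal.mul_mem_right (MvPolynomial.X (1 : Fin 2)) _ h)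
        (Ideal.mul_mem_left _ (Polynomial.aeval (MvPolynomial.X (0 : Fin 2)) b) (Ideal.mem_span_singleton_self _)) using 1
      rw [map_sub, map_mul, map_mul]; ring

variable {X : Scheme.{u}} [X.Over (Spec (CommRingCat.of k))] [IsIntegral X]
  [IsProper (X ↘ Spec (CommRingCat.of k))]
  {f : X ⟶ CohB1.ProjSpace 1 k} [IsFinite f] [Flat f]
  {hη : f (genericPoint X) = genericPoint (CohB1.ProjSpace 1 k)}
  {y y' : X.functionField} {B C : Subalgebra k X.functionField}

omit [IsIntegral X] [IsProper (X ↘ Spec (CommRingCat.of k))] in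
theorem toSpecΓ_scal (U : X.Opens) :
    U.toSpecΓ ≫ Spec.map (CommRingCat.ofHom (LeadFF.scal (X ↘ Spec (CommRingCat.of k)) U)) =
      U.ι ≫ (X ↘ Spec (CommRingCat.of k)) := by
  rw [show CommRingCat.ofHom (LeadFF.scal (X ↘ Spec (CommRingCat.of k)) U) =
      ((Scheme.ΓSpecIso (CommRingCat.of k)).inv ≫ (X ↘ Spec (CommRingCat.of k)).appTop) ≫
        X.presheaf.map (homOfLE (le_top : U ≤ ⊤)).op from rfl,
    Spec.map_comp, Spec.map_comp, Scheme.Opens.toSpecΓ_SpecMap_presheaf_map_top_assoc,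
    ← Scheme.toSpecΓ_naturality_assoc, toSpecΓ_SpecMap_ΓSpecIso_inv, Category.comp_id]

theorem exists_chartIso (D : Lattices (coordK f hη 0 1) y y' (chartSub (k := k) f hη 0) B C) {P Q : Polynomial k}
    (h : y ^ 2 + Polynomial.aeval (coordK f hη 0 1) Q * y = Polynomial.aeval (coordK f hη 0 1) P) :
    ∃ e : (↑(f ⁻¹ᵁ LefPen.chart 1 k 0) : Scheme.{u}) ≅
        Spec (CommRingCat.of (MvPolynomial (Fin 2) k ⧸ Ideal.span {(MvPolynomial.X 1 : MvPolynomial (Fin 2) k) ^ 2 + Polynomial.aeval (MvPolynomial.X 0) Q * MvPolynomial.X 1 - Polynomial.aeval (MvPolynomial.X 0) P})),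
      e.hom ≫ Spec.map (CommRingCat.ofHom ((Ideal.Quotient.mk (Ideal.span {(MvPolynomial.X 1 : MvPolynomial (Fin 2) k) ^ 2 + Polynomial.aeval (MvPolynomial.X 0) Q * MvPolynomial.X 1 - Polynomial.aeval (MvPolynomial.X 0) P})).comp (MvPolynomial.C : k →+* MvPolynomial (Fin 2) k))) =
        (f ⁻¹ᵁ LefPen.chart 1 k 0).ι ≫ (X ↘ Spec (CommRingCat.of k)) := by
  let U := f ⁻¹ᵁ LefPen.chart 1 k 0
  have hU : IsAffineOpen U := (isAffineOpen_chart k 0).preimage f
  have hUη : genericPoint X ∈ U := mem_chartPreimage f hη 0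
  haveI : Nonempty U := ⟨⟨_, hUη⟩⟩
  let g := (X.presheaf.germ U (genericPoint X) hUη).hom
  have hg : Function.Injective g := X.germToFunctionField_injective U
  letI : Algebra k Γ(X, U) := (LeadFF.scal (X ↘ Spec (CommRingCat.of k)) U).toAlgebra
  let gₐ : Γ(X, U) →ₐ[k] X.functionField := { g with commutes' := fun c => germ_scal U hUη c }
  obtain ⟨sy, hsy⟩ := show y ∈ chartSub (k := k) f hη 0 from (D.memA _).2 ⟨0, 1, by simp⟩
  let st : Γ(X, U) := f.app (LefPen.chart 1 k 0) (coordFun k 0 1)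
  let Θ : MvPolynomial (Fin 2) k →ₐ[k] Γ(X, U) := MvPolynomial.aeval ![st, sy]
  have hΘ : ∀ a b : Polynomial k, gₐ (Θ (Polynomial.aeval (MvPolynomial.X 0) a +
      Polynomial.aeval (MvPolynomial.X 0) b * MvPolynomial.X 1)) =
        Polynomial.aeval (coordK f hη 0 1) a + Polynomial.aeval (coordK f hη 0 1) b * y := fun a b => by
    rw [map_add, map_mul, map_add, map_mul, ← Polynomial.aeval_algHom_apply, ← Polynomial.aeval_algHom_apply,
      ← Polynomial.aeval_algHom_apply, ← Polynomial.aeval_algHom_apply]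
    simp only [Θ, MvPolynomial.aeval_X, Matrix.cons_val_zero, Matrix.cons_val_one]
    have h1 : gₐ st = coordK f hη 0 1 := rfl
    have h2 : gₐ sy = y := hsy
    rw [h1, h2]
  let I := Ideal.span {(MvPolynomial.X 1 : MvPolynomial (Fin 2) k) ^ 2 + Polynomial.aeval (MvPolynomial.X 0) Q * MvPolynomial.X 1 - Polynomial.aeval (MvPolynomial.X 0) P}
  have hrel : ∀ F ∈ I, Θ F = 0 := fun F hF => by
    obtain ⟨G, rfl⟩ := Ideal.mem_span_singleton'.1 hF
    rw [map_mul]
    refine mul_eq_zero_of_right _ (hg ?_)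
    show gₐ (Θ _) = g 0
    have h2 : gₐ (Θ (MvPolynomial.X 1)) = y := by
      simp only [Θ, MvPolynomial.aeval_X, Matrix.cons_val_one]; exact hsy
    have hQ := hΘ Q 0
    have hP := hΘ P 0
    simp only [map_zero, zero_mul, add_zero] at hQ hP
    rw [map_sub, map_add, map_pow, map_mul, map_sub, map_add, map_pow, map_mul, h2, hQ, hP, map_zero]
    exact sub_eq_zero.2 h
  let ψ : MvPolynomial (Fin 2) k ⧸ I →+* Γ(X, U) := Ideal.Quotient.lift I Θ.toRingHom hrel
  have hψ : ∀ F, ψ (Ideal.Quotient.mk I F) = Θ F := fun F => Ideal.Quotient.lift_mk _ _ _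
  have hbij : Function.Bijective ψ := by
    refine ⟨(injective_iff_map_eq_zero ψ).2 fun z hz => ?_, fun s => ?_⟩
    · obtain ⟨F, rfl⟩ := Ideal.Quotient.mk_surjective z
      obtain ⟨a, b, hab⟩ := exists_reduction P Q F
      have hab' := hrel _ hab
      rw [hψ] at hz
      rw [map_sub, hz, zero_sub, neg_eq_zero] at hab'
      obtain ⟨ha, hb⟩ := D.indep a b (by rw [← hΘ, hab', map_zero])
      rw [ha, hb, map_zero, zero_mul, add_zero, sub_zero] at hab
      exact Ideal.Quotient.eq_zero_iff_mem.2 hab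
    · obtain ⟨p, q, hpq⟩ := (D.memA (g s)).1 ⟨s, rfl⟩
      exact ⟨Ideal.Quotient.mk I _, hg ((congrArg g (hψ _)).trans ((hΘ p q).trans hpq.symm))⟩
  let e₀ := (RingEquiv.ofBijective ψ hbij).toCommRingCatIso
  refine ⟨hU.isoSpec ≪≫ asIso (Spec.map e₀.hom), ?_⟩
  rw [Iso.trans_hom, asIso_hom, Category.assoc, ← Spec.map_comp, IsAffineOpen.isoSpec_hom]
  refine Eq.trans (congrArg (fun φ => U.toSpecΓ ≫ Spec.map φ) ?_) (toSpecΓ_scal U)
  ext c
  show ψ (Ideal.Quotient.mk I (MvPolynomial.C c)) = _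
  rw [hψ]
  exact Θ.commutes c

end Groth.Agent.H29DoubleCover
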