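import Groth.Agent.H29DoubleCover.Equation.Bounds
import Groth.Agent.H29DoubleCover.Equation.Chart
import Groth.Agent.H29DoubleCover.Hyperelliptic
import Groth.Agent.H7Lim.Birational
import Groth.Agent.H22Alg.FiniteDegree
import Groth.Prelude.Def_Curv2

/-!
# The lattices of a double cover of the line
-/

set_option autoImplicit false
set_option linter.style.haveILetI false

universe u

open CategoryTheory AlgebraicGeometry TopologicalSpace

namespace Groth.Agent.H29DoubleCover

attribute [local instance] Curv2.stalkAlgebra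

variable {k : Type u} [Field k] {X : Scheme.{u}} [X.Over (Spec (CommRingCat.of k))] [IsIntegral X]

theorem germ_scal (V : X.Opens) (hV : genericPoint X ∈ V) (c : k) :
    X.presheaf.germ V (genericPoint X) hV (LeadFF.scal (X ↘ Spec (CommRingCat.of k)) V c) =
      algebraMap k X.functionField c :=
  X.presheaf.germ_res_apply (homOfLE (le_top : V ≤ ⊤)) (genericPoint X) hV (LeadFF.glob (X ↘ Spec (CommRingCat.of k)) c)

/-- The functions on an open as a subalgebra of the function field. -/
noncomputable def secSub (V : X.Opens) (hV : genericPoint X ∈ V) : Subalgebra k X.functionField where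
  toSubsemiring := (X.presheaf.germ V (genericPoint X) hV).hom.range.toSubsemiring
  algebraMap_mem' c := ⟨_, germ_scal V hV c⟩

theorem mem_secSub {V : X.Opens} {hV : genericPoint X ∈ V} {a : X.functionField} :
    a ∈ secSub (k := k) V hV ↔ ∃ s : Γ(X, V), X.presheaf.germ V (genericPoint X) hV s = a := Iff.rfl

theorem secSub_congr {V W : X.Opens} (e : V = W) (hV : genericPoint X ∈ V) (hW : genericPoint X ∈ W) :
    secSub (k := k) V hV = secSub W hW := by subst e; rfl

/-- The functions on a basic open of an affine open. -/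
theorem mem_secSub_basicOpen {V : X.Opens} (hV : IsAffineOpen V) (s : Γ(X, V)) (hη : genericPoint X ∈ X.basicOpen s)
    (z : X.functionField) :
    z ∈ secSub (k := k) (X.basicOpen s) hη ↔
      ∃ m : ℕ, (X.presheaf.germ V (genericPoint X) (X.basicOpen_le s hη) s) ^ m * z ∈
        secSub (k := k) V (X.basicOpen_le s hη) := by
  haveI := hV.isLocalization_basicOpen s
  let gV := (X.presheaf.germ V (genericPoint X) (X.basicOpen_le s hη)).hom
  let gW := (X.presheaf.germ (X.basicOpen s) (genericPoint X) hη).hom
  have hres : ∀ a, gW (algebraMap Γ(X, V) Γ(X, X.basicOpen s) a) = gV a := fun a =>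
    X.presheaf.germ_res_apply (homOfLE (X.basicOpen_le s)) (genericPoint X) hη a
  constructor
  · rintro ⟨w, rfl⟩
    obtain ⟨m, a, ha⟩ := IsLocalization.Away.surj s w
    refine ⟨m, a, ?_⟩
    show gV a = gV s ^ m * gW w
    rw [← hres, ← hres, ← map_pow, ← map_mul, ← ha, mul_comm]
  · rintro ⟨m, a, ha⟩
    have hu : IsUnit (gV s) := by
      rw [← hres]; exact (IsLocalization.Away.algebraMap_isUnit s).map gW
    obtain ⟨w, hw⟩ := (IsLocalization.Away.algebraMap_isUnit (S := Γ(X, X.basicOpen s)) s).pow m
    refine ⟨algebraMap Γ(X, V) _ a * ↑w⁻¹, ?_⟩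
    refine (hu.pow m).mul_left_cancel ?_
    show gV s ^ m * gW _ = gV s ^ m * z
    rw [← show gV a = gV s ^ m * z from ha, ← hres s, ← map_pow, ← hw, map_mul, hres, mul_left_comm, ← map_mul,
      Units.mul_inv, map_one, mul_one]

/-- A torsion-free lattice of rank two containing the saturated polynomials. -/
theorem exists_basis {M : Type u} [AddCommGroup M] [Module (Polynomial k) M] [Module.Finite (Polynomial k) M]
    [Module.IsTorsionFree (Polynomial k) M] (h2 : Module.finrank (Polynomial k) M = 2) (e : M) (he : e ≠ 0)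
    (hsat : ∀ (p : Polynomial k) (m : M), p ≠ 0 → p • m ∈ Submodule.span (Polynomial k) {e} →
      m ∈ Submodule.span (Polynomial k) {e}) :
    ∃ y : M, (∀ m, ∃ p q : Polynomial k, m = p • e + q • y) ∧
      ∀ p q : Polynomial k, p • e + q • y = 0 → p = 0 ∧ q = 0 := by
  haveI : Module.Free (Polynomial k) M := Module.free_of_finite_type_torsion_free'
  let N := Submodule.span (Polynomial k) {e}
  haveI : Module.IsTorsionFree (Polynomial k) (M ⧸ N) := by
    refine Module.IsTorsionFree.of_smul_eq_zero fun p x h => ?_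
    obtain ⟨m, rfl⟩ := Submodule.Quotient.mk_surjective N x
    refine or_iff_not_imp_left.2 fun hp => ?_
    rw [← Submodule.Quotient.mk_smul, Submodule.Quotient.mk_eq_zero] at h
    exact (Submodule.Quotient.mk_eq_zero N).2 (hsat p m hp h)
  haveI : Module.Free (Polynomial k) (M ⧸ N) := Module.free_of_finite_type_torsion_free'
  have h1 : Module.finrank (Polynomial k) N = 1 :=
    ((LinearEquiv.toSpanNonzeroSingleton (Polynomial k) M e he).finrank_eq).symm.trans (Module.finrank_self _)
  have hq : Module.finrank (Polynomial k) (M ⧸ N) = 1 := by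
    have := Submodule.finrank_quotient_add_finrank N
    omega
  let b : Module.Basis (Fin 1) (Polynomial k) (M ⧸ N) := Module.finBasisOfFinrankEq _ _ hq
  obtain ⟨y, hy⟩ := Submodule.Quotient.mk_surjective N (b 0)
  refine ⟨y, fun m => ?_, fun p q h => ?_⟩
  · have h : Submodule.Quotient.mk (p := N) (m - b.repr (Submodule.Quotient.mk m) 0 • y) = 0 := by
      rw [Submodule.Quotient.mk_sub, Submodule.Quotient.mk_smul, hy, sub_eq_zero]
      conv_lhs => rw [← b.sum_repr (Submodule.Quotient.mk m)]
      simp
    obtain ⟨p, hp⟩ := Submodule.mem_span_singleton.1 ((Submodule.Quotient.mk_eq_zero N).1 h)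
    exact ⟨p, b.repr (Submodule.Quotient.mk m) 0, by rw [hp]; abel⟩
  · have h' := congrArg (Submodule.Quotient.mk (p := N)) h
    rw [Submodule.Quotient.mk_add, Submodule.Quotient.mk_smul, Submodule.Quotient.mk_smul, hy,
      (Submodule.Quotient.mk_eq_zero N).2 (Submodule.mem_span_singleton_self e), smul_zero, zero_add,
      Submodule.Quotient.mk_zero] at h'
    have hq0 : q = 0 := (smul_eq_zero.1 h').resolve_right (b.ne_zero 0)
    rw [hq0, zero_smul, add_zero] at h
    exact ⟨(smul_eq_zero.1 h).resolve_right he, hq0⟩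

variable (f : X ⟶ CohB1.ProjSpace 1 k) [IsFinite f] [Flat f]
  (hf : f ≫ CohB1.ProjSpace.toSpec 1 k = X ↘ Spec (CommRingCat.of k))
  (hη : f (genericPoint X) = genericPoint (CohB1.ProjSpace 1 k))

include hη in
theorem mem_chartPreimage (i : Fin (1 + 1)) : genericPoint X ∈ f ⁻¹ᵁ LefPen.chart 1 k i := by
  show f (genericPoint X) ∈ LefPen.chart 1 k i
  rw [hη]
  haveI := (H28Curve.projLine_facts k).1
  haveI : Nonempty (LefPen.chart 1 k i) := by
    obtain ⟨ρ, hρ, -, -⟩ := exists_chartPoly k i (i + 1) (by fin_cases i <;> decide)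
    by_contra hempty
    haveI := not_nonempty_iff.1 hempty
    have hbot : LefPen.chart 1 k i = ⊥ := Opens.ext (Set.eq_empty_of_forall_notMem fun z hz => hempty ⟨⟨z, hz⟩⟩)
    haveI : Subsingleton Γ(CohB1.ProjSpace 1 k, LefPen.chart 1 k i) := by rw [hbot]; infer_instance
    exact one_ne_zero (hρ.1 (Subsingleton.elim (ρ 1) (ρ 0)))
  obtain ⟨z, hz⟩ := (inferInstance : Nonempty (LefPen.chart 1 k i))
  exact (genericPoint_spec _).specializes (Set.mem_univ z) |>.mem_open (LefPen.chart 1 k i).2 hz

/-- The coordinate in the function field of the cover. -/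
noncomputable def coordK (i j : Fin (1 + 1)) : X.functionField :=
  X.presheaf.germ (f ⁻¹ᵁ LefPen.chart 1 k i) (genericPoint X) (mem_chartPreimage f hη i)
    (f.app (LefPen.chart 1 k i) (coordFun k i j))

theorem coordK_mul : coordK f hη 0 1 * coordK f hη 1 0 = 1 := by
  let V := LefPen.chart 1 k (0 : Fin (1 + 1)) ⊓ LefPen.chart 1 k 1
  have hV : genericPoint X ∈ f ⁻¹ᵁ V := ⟨mem_chartPreimage f hη 0, mem_chartPreimage f hη 1⟩
  have h := congrArg (fun z => X.presheaf.germ (f ⁻¹ᵁ V) (genericPoint X) hV (f.app V z))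
    (coordFun_mul k (0 : Fin (1 + 1)) 1 (inf_le_left : V ≤ _) inf_le_right)
  dsimp only at h
  rw [map_mul, map_mul, map_one, map_one, ← ConcreteCategory.comp_apply _ (f.app V), f.naturality,
    ConcreteCategory.comp_apply] at h
  erw [X.presheaf.germ_res_apply] at h
  rw [← ConcreteCategory.comp_apply _ (f.app V), f.naturality, ConcreteCategory.comp_apply] at h
  erw [X.presheaf.germ_res_apply] at h
  exact h

include hf in
/-- The lattice over one chart. -/
theorem exists_chartLattice (hN : ∀ x : X, IsIntegrallyClosed (X.presheaf.stalk x))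
    (hr : f.finrank (genericPoint (CohB1.ProjSpace 1 k)) = 2) (i j : Fin (1 + 1)) (hij : j ≠ i) :
    ∃ y : X.functionField,
      Function.Injective (Polynomial.aeval (coordK f hη i j) : Polynomial k →ₐ[k] X.functionField) ∧
      (∀ p q : Polynomial k,
        Polynomial.aeval (coordK f hη i j) p + Polynomial.aeval (coordK f hη i j) q * y = 0 → p = 0 ∧ q = 0) ∧
      ∀ a, a ∈ secSub (k := k) (f ⁻¹ᵁ LefPen.chart 1 k i) (mem_chartPreimage f hη i) ↔
        ∃ p q : Polynomial k,
          a = Polynomial.aeval (coordK f hη i j) p + Polynomial.aeval (coordK f hη i j) q * y := by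
  haveI := (H28Curve.projLine_facts k).1
  let P := CohB1.ProjSpace 1 k
  let D := LefPen.chart 1 k i
  let V := f ⁻¹ᵁ D
  have hD : IsAffineOpen D := isAffineOpen_chart k i
  have hVη : genericPoint X ∈ V := mem_chartPreimage f hη i
  have hfD : f (genericPoint X) ∈ D := hVη
  haveI : Nonempty V := ⟨⟨_, hVη⟩⟩
  obtain ⟨ρ, hρ, hρX, hρC⟩ := exists_chartPoly k i j hij
  let g := (X.presheaf.germ V (genericPoint X) hVη).hom
  have hg : Function.Injective g := X.germToFunctionField_injective V
  let φ : Polynomial k →+* Γ(X, V) := (f.app D).hom.comp ρ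
  have hgφ : ∀ p, g (φ p) = Polynomial.aeval (coordK f hη i j) p := by
    intro p
    refine congrArg (fun (r : Polynomial k →+* X.functionField) => r p)
      (Polynomial.ringHom_ext (f := g.comp φ) (g := (Polynomial.aeval (coordK f hη i j)).toRingHom) (fun c => ?_) ?_)
    · show g (f.app D (ρ (Polynomial.C c))) = Polynomial.aeval (coordK f hη i j) (Polynomial.C c)
      rw [hρC, Polynomial.aeval_C]
      refine Eq.trans ?_ (germ_scal V hVη c)
      congr 1
      show f.app D (P.presheaf.map (homOfLE le_top).op (LeadFF.glob (CohB1.ProjSpace.toSpec 1 k) c)) = _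
      rw [← ConcreteCategory.comp_apply, f.naturality, ConcreteCategory.comp_apply, LeadFF.scal, RingHom.comp_apply]
      congr 1
      show f.appTop ((CohB1.ProjSpace.toSpec 1 k).appTop _) = (X ↘ Spec (CommRingCat.of k)).appTop _
      rw [← ConcreteCategory.comp_apply, ← Scheme.Hom.comp_appTop, hf]
    · show g (f.app D (ρ Polynomial.X)) = Polynomial.aeval (coordK f hη i j) Polynomial.X
      rw [hρX, Polynomial.aeval_X]
      rfl
  have hinj : Function.Injective φ := by
    have hs : Function.Injective (f.stalkMap (genericPoint X)).hom := by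
      have hfield : IsField (P.presheaf.stalk (f (genericPoint X))) := by
        rw [hη]; exact Field.toIsField P.functionField
      letI := hfield.toField
      exact (f.stalkMap (genericPoint X)).hom.injective
    intro a b hab
    refine hρ.1 (germ_injective_of_isIntegral P (f (genericPoint X)) hfD (hs ?_))
    rw [Scheme.Hom.germ_stalkMap_apply, Scheme.Hom.germ_stalkMap_apply]
    exact congrArg g hab
  letI : Algebra (Polynomial k) Γ(X, V) := φ.toAlgebra
  haveI hfin : Module.Finite (Polynomial k) Γ(X, V) := by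
    have h1 : (f.app D).hom.Finite := IsFinite.finite_app f D hD
    have h2 : ρ.Finite := RingHom.Finite.of_surjective ρ hρ.2
    exact RingHom.finite_algebraMap.1 (h1.comp h2)
  haveI : Module.IsTorsionFree (Polynomial k) Γ(X, V) := by
    refine Module.IsTorsionFree.of_smul_eq_zero fun p x h => ?_
    rw [Algebra.smul_def] at h
    exact (mul_eq_zero.1 h).imp (fun h' => hinj (h'.trans (map_zero _).symm)) id
  have h2 : Module.finrank (Polynomial k) Γ(X, V) = 2 := by
    letI := (f.app D).hom.toAlgebra
    haveI : Module.Finite Γ(P, D) Γ(X, V) := IsFinite.finite_app f D hD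
    haveI : Flat (Spec.map (f.app D)) :=
      MorphismProperty.of_isPullback (H22Alg.FiniteDegree.isPullback_fromSpec f hD) inferInstance
    haveI : Module.Flat Γ(P, D) Γ(X, V) := Flat.SpecMap_iff.mp ‹_›
    let e := RingEquiv.ofBijective ρ hρ
    haveI : IsPrincipalIdealRing Γ(P, D) := IsPrincipalIdealRing.of_surjective ρ hρ.2
    haveI : Nonempty D := ⟨⟨_, hfD⟩⟩
    haveI : IsDomain Γ(P, D) := inferInstance
    haveI : Module.IsTorsionFree Γ(P, D) Γ(X, V) := by
      refine Module.IsTorsionFree.of_smul_eq_zero fun a x h => ?_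
      rw [Algebra.smul_def] at h
      obtain ⟨p, rfl⟩ := hρ.2 a
      exact (mul_eq_zero.1 h).imp (fun h' => (congrArg ρ (hinj (h'.trans (map_zero φ).symm))).trans (map_zero ρ)) id
    haveI : Module.Free Γ(P, D) Γ(X, V) := Module.free_of_finite_type_torsion_free'
    have h3 := H22Alg.FiniteDegree.finrank_eq_rankAtStalk f hD ⟨f (genericPoint X), hfD⟩
    rw [Module.rankAtStalk_eq_finrank_of_free] at h3
    simp only [hη] at h3
    rw [hr] at h3
    refine Eq.trans ?_ h3.symm
    exact Algebra.finrank_eq_of_equiv_equiv e (RingEquiv.refl _) (RingHom.ext fun _ => rfl)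
  have hsat : ∀ (p : Polynomial k) (m : Γ(X, V)), p ≠ 0 → p • m ∈ Submodule.span (Polynomial k) {(1 : Γ(X, V))} →
      m ∈ Submodule.span (Polynomial k) {(1 : Γ(X, V))} := by
    intro p m hp h
    obtain ⟨q, hq⟩ := Submodule.mem_span_singleton.1 h
    rw [Algebra.smul_def, Algebra.smul_def, mul_one] at hq
    obtain ⟨F, hF, hF0⟩ : φ.IsIntegralElem m :=
      (RingHom.IsIntegral.of_finite (RingHom.finite_algebraMap.2 hfin)) m
    let L := FractionRing (Polynomial k)
    have hli : Function.Injective (g.comp φ) := hg.comp hinj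
    let ι : L →+* X.functionField := IsFractionRing.lift (K := L) hli
    have hι : ∀ a, ι (algebraMap (Polynomial k) L a) = g (φ a) := fun a => IsFractionRing.lift_algebraMap hli a
    let z : L := algebraMap (Polynomial k) L q / algebraMap (Polynomial k) L p
    have hz : ι z = g m := by
      rw [map_div₀, hι, hι, show φ q = φ p * m from hq, map_mul, mul_div_cancel_left₀ _ (show g (φ p) ≠ 0 from fun h0 => hp (hli (h0.trans (map_zero _).symm)))]
    have hzi : _root_.IsIntegral (Polynomial k) z := by
      refine ⟨F, hF, ι.injective ?_⟩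
      rw [map_zero, Polynomial.hom_eval₂, hz, show ι.comp (algebraMap (Polynomial k) L) = g.comp φ from RingHom.ext hι,
        ← Polynomial.hom_eval₂, hF0, map_zero]
    obtain ⟨r, hr'⟩ := IsIntegrallyClosed.isIntegral_iff.1 hzi
    refine Submodule.mem_span_singleton.2 ⟨r, hg ?_⟩
    rw [Algebra.smul_def, mul_one, ← hz, ← hr', hι]
    rfl
  obtain ⟨y, hy, hyind⟩ := exists_basis h2 (1 : Γ(X, V)) one_ne_zero hsat
  refine ⟨g y, fun a b hab => hinj (hg ?_), fun p q h => hyind p q (hg ?_), fun a => ⟨?_, ?_⟩⟩
  · rw [hgφ, hgφ, hab]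
  · rw [map_zero, map_add, Algebra.smul_def, Algebra.smul_def, mul_one, map_mul]
    exact ((congrArg₂ (fun u w => u + w * g y) (hgφ p) (hgφ q)).trans h)
  · rintro ⟨s, rfl⟩
    obtain ⟨p, q, rfl⟩ := hy s
    refine ⟨p, q, ?_⟩
    show g (p • (1 : Γ(X, V)) + q • y) = _
    rw [map_add, Algebra.smul_def, Algebra.smul_def, mul_one, map_mul]
    exact congrArg₂ (fun u w => u + w * g y) (hgφ p) (hgφ q)
  · rintro ⟨p, q, rfl⟩
    refine ⟨φ p + φ q * y, ?_⟩
    show g _ = _
    rw [map_add, map_mul, hgφ, hgφ]

end Groth.Agent.H29DoubleCover
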