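import Groth.Agent.H29DoubleCover.Equation.Main

/-!
# The function field of a double cover of the line
-/

set_option autoImplicit false
set_option linter.style.haveILetI false

universe u

open CategoryTheory AlgebraicGeometry TopologicalSpace

namespace Groth.Agent.H29DoubleCover

attribute [local instance] Curv2.stalkAlgebra

variable {k : Type u} [Field k] {X : Scheme.{u}} [X.Over (Spec (CommRingCat.of k))] [IsIntegral X]
  [IsProper (X ↘ Spec (CommRingCat.of k))]
  (f : X ⟶ CohB1.ProjSpace 1 k) [IsFinite f] [Flat f]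
  (hf : f ≫ CohB1.ProjSpace.toSpec 1 k = X ↘ Spec (CommRingCat.of k))
  (hη : f (genericPoint X) = genericPoint (CohB1.ProjSpace 1 k))

/-- Completing the square. -/
theorem exists_normal_square {K : Type u} [Field K] [Algebra k K] {t y : K} {A B C : Subalgebra k K} {n : ℕ}
    (D : Lattices t y (t⁻¹ ^ n * y) A B C) (h2 : (2 : k) ≠ 0) {P Q : Polynomial k} (hQ : Q.natDegree ≤ n)
    (h : y ^ 2 + Polynomial.aeval t Q * y = Polynomial.aeval t P) :
    ∃ (y₂ : K) (P₂ : Polynomial k), Lattices t y₂ (t⁻¹ ^ n * y₂) A B C ∧
      y₂ ^ 2 + Polynomial.aeval t (0 : Polynomial k) * y₂ = Polynomial.aeval t P₂ := by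
  let r : Polynomial k := Polynomial.C (2 : k)⁻¹ * Q
  have hr : r.natDegree ≤ n := (Polynomial.natDegree_C_mul_le _ _).trans hQ
  refine ⟨y + Polynomial.aeval t r, P + r * r, ?_, ?_⟩
  · have h' := D.shift r (Polynomial.reflect n r) 1 one_ne_zero
    convert h' using 1
    rw [map_one, one_mul, Lattices.aeval_reflect D.ne_zero r hr]
    ring
  · have e : (2 : K) * Polynomial.aeval t r = Polynomial.aeval t Q := by
      rw [← map_ofNat (algebraMap k K) 2, ← Polynomial.aeval_C t, ← map_mul, ← mul_assoc, ← Polynomial.C_mul,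
        mul_inv_cancel₀ h2, Polynomial.C_1, one_mul]
    rw [map_zero, zero_mul, add_zero, map_add, map_mul (Polynomial.aeval t) r r]
    linear_combination h + y * e

variable {f} {hη}

/-- Every rational function is a quotient of functions on a chart. -/
theorem exists_div_eq (i : Fin (1 + 1)) (z : X.functionField) :
    ∃ a ∈ chartSub (k := k) f hη i, ∃ b ∈ chartSub (k := k) f hη i, z = a / b := by
  let V := f ⁻¹ᵁ LefPen.chart 1 k i
  haveI : Nonempty V := ⟨⟨_, mem_chartPreimage f hη i⟩⟩
  haveI := functionField_isFractionRing_of_isAffineOpen X V ((isAffineOpen_chart k i).preimage f)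
  obtain ⟨a, b, -, rfl⟩ := IsFractionRing.div_surjective Γ(X, V) z
  exact ⟨_, ⟨a, rfl⟩, _, ⟨b, rfl⟩, rfl⟩

variable {y y' : X.functionField} {B C : Subalgebra k X.functionField}
  (D : Lattices (coordK f hη 0 1) y y' (chartSub (k := k) f hη 0) B C)

include D

theorem notMem_adjoin :
    y ∉ IntermediateField.adjoin k ({coordK f hη 0 1} : Set X.functionField) := fun h => by
  obtain ⟨p, q, e⟩ := (IntermediateField.mem_adjoin_simple_iff k y).1 h
  rcases eq_or_ne (Polynomial.aeval (coordK f hη 0 1) q) 0 with hq | hq
  · rw [hq, div_zero] at e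
    exact one_ne_zero (D.indep 0 1 (by rw [map_zero, map_one, one_mul, zero_add, e])).2
  · obtain ⟨-, h2⟩ := D.indep (-p) q (by rw [map_neg, e, mul_div_cancel₀ _ hq, neg_add_cancel])
    rw [h2, map_zero] at hq
    exact hq rfl

theorem mem_of_mem_chartSub (L : IntermediateField k X.functionField) (ht : coordK f hη 0 1 ∈ L) (hy : y ∈ L)
    (z : X.functionField) : z ∈ L := by
  have hA : ∀ a ∈ chartSub (k := k) f hη 0, a ∈ L := fun a ha => by
    obtain ⟨p, q, rfl⟩ := (D.memA a).1 ha
    have hp : ∀ r : Polynomial k, Polynomial.aeval (coordK f hη 0 1) r ∈ L := fun r =>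
      Algebra.adjoin_le (S := L.toSubalgebra) (Set.singleton_subset_iff.2 ht) (Polynomial.aeval_mem_adjoin_singleton k _)
    exact add_mem (hp p) (mul_mem (hp q) hy)
  obtain ⟨a, ha, b, hb, rfl⟩ := exists_div_eq (k := k) (f := f) (hη := hη) 0 z
  exact div_mem (hA a ha) (hA b hb)

theorem adjoin_eq_top : IntermediateField.adjoin k ({coordK f hη 0 1, y} : Set X.functionField) = ⊤ :=
  eq_top_iff.2 fun z _ => mem_of_mem_chartSub D _ (IntermediateField.subset_adjoin _ _ (Set.mem_insert _ _))
    (IntermediateField.subset_adjoin _ _ (Set.mem_insert_of_mem _ (Set.mem_singleton y))) z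

theorem adjoin_y_eq_top :
    IntermediateField.adjoin (IntermediateField.adjoin k ({coordK f hη 0 1} : Set X.functionField))
      ({y} : Set X.functionField) = ⊤ := by
  refine eq_top_iff.2 fun z _ => ?_
  let F := IntermediateField.adjoin k ({coordK f hη 0 1} : Set X.functionField)
  exact mem_of_mem_chartSub D ((IntermediateField.adjoin F ({y} : Set X.functionField)).restrictScalars k)
    ((IntermediateField.adjoin F ({y} : Set X.functionField)).algebraMap_mem
      ⟨_, IntermediateField.subset_adjoin k _ rfl⟩)
    (IntermediateField.subset_adjoin F _ rfl) z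

/-- The cover is quadratic, and separable as soon as the generator is. -/
theorem finrank_two {P Q : Polynomial k}
    (h : y ^ 2 + Polynomial.aeval (coordK f hη 0 1) Q * y = Polynomial.aeval (coordK f hη 0 1) P) :
    Module.finrank (IntermediateField.adjoin k ({coordK f hη 0 1} : Set X.functionField)) X.functionField = 2 ∧
      ((2 : k) ≠ 0 ∨ Q ≠ 0 →
        Algebra.IsSeparable (IntermediateField.adjoin k ({coordK f hη 0 1} : Set X.functionField)) X.functionField) := by
  classical
  let t := coordK f hη 0 1
  let F := IntermediateField.adjoin k ({t} : Set X.functionField)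
  let t' : F := ⟨t, IntermediateField.subset_adjoin k _ rfl⟩
  have hae : ∀ r : Polynomial k, algebraMap F X.functionField (Polynomial.aeval t' r) = Polynomial.aeval t r := fun r =>
    (Polynomial.aeval_algebraMap_apply X.functionField t' r).symm
  let R : Polynomial F := Polynomial.X ^ 2 + (Polynomial.C (Polynomial.aeval t' Q) * Polynomial.X -
    Polynomial.C (Polynomial.aeval t' P))
  have hRm : R.Monic := Polynomial.monic_X_pow_add ((Polynomial.degree_sub_le _ _).trans_lt (max_lt
    (Polynomial.degree_C_mul_X_le _ |>.trans_lt (by decide)) (Polynomial.degree_C_le.trans_lt (by decide))))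
  have hR : Polynomial.aeval y R = 0 := by
    simp only [R, map_add, map_sub, map_mul, map_pow, Polynomial.aeval_X, Polynomial.aeval_C, hae]
    linear_combination h
  have hint : _root_.IsIntegral F y := ⟨R, hRm, hR⟩
  have hdegR : R.natDegree = 2 := by simp only [R]; compute_degree!
  have hne : (minpoly F y).natDegree ≠ 1 := fun h1 => by
    obtain ⟨z, hz⟩ := minpoly.natDegree_eq_one_iff.1 h1
    exact notMem_adjoin D (hz ▸ z.2)
  have hdeg : (minpoly F y).natDegree = 2 := by
    have h1 := Polynomial.natDegree_le_of_dvd (minpoly.dvd F y hR) hRm.ne_zero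
    have h2 := minpoly.natDegree_pos hint
    omega
  have htop := adjoin_y_eq_top D
  refine ⟨?_, fun hsep => ?_⟩
  · rw [← IntermediateField.finrank_top', ← htop, IntermediateField.adjoin.finrank hint, hdeg]
  · have hmin : minpoly F y = R :=
      Polynomial.eq_of_monic_of_associated (minpoly.monic hint) hRm
        (Polynomial.associated_of_dvd_of_natDegree_le (minpoly.dvd F y hR) hRm.ne_zero (by rw [hdeg, hdegR]))
    have hys : IsSeparable F y := by
      show (minpoly F y).Separable
      rw [Polynomial.separable_iff_derivative_ne_zero (minpoly.irreducible hint), hmin]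
      intro hd
      have h1 := congrArg (fun q : Polynomial F => q.coeff 1) hd
      have h0 := congrArg (fun q : Polynomial F => q.coeff 0) hd
      simp only [R, Polynomial.coeff_derivative, Polynomial.coeff_zero] at h1 h0
      simp [Polynomial.coeff_X_pow, Polynomial.coeff_C] at h1 h0
      rcases hsep with h2 | hQ
      · refine h2 ?_
        refine (algebraMap k F).injective ?_
        rw [map_ofNat, map_zero]
        norm_num at h1
        first | exact h1 | exact_mod_cast h1
      · refine hQ (D.inj ?_)
        rw [map_zero, ← hae, h0, map_zero]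
    haveI := (IntermediateField.isSeparable_adjoin_simple_iff_isSeparable F X.functionField).2 hys
    rw [htop] at this
    exact Algebra.IsSeparable.of_algHom _ _ (IntermediateField.topEquiv (F := F) (E := X.functionField)).symm.toAlgHom

omit D in
include hf in
/-- In characteristic two a separable cover has a linear term. -/
theorem ne_zero_of_separable (hN : ∀ x : X, IsIntegrallyClosed (X.presheaf.stalk x)) (h2 : (2 : k) = 0)
    {y y' : X.functionField} {B C : Subalgebra k X.functionField}
    (D : Lattices (coordK f hη 0 1) y y' (chartSub (k := k) f hη 0) B C) {P Q : Polynomial k}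
    (h : y ^ 2 + Polynomial.aeval (coordK f hη 0 1) Q * y = Polynomial.aeval (coordK f hη 0 1) P)
    (hs : letI := (f.residueFieldMap (genericPoint X)).hom.toAlgebra
      Algebra.IsSeparable ((CohB1.ProjSpace 1 k).residueField (f (genericPoint X))) (X.residueField (genericPoint X))) :
    Q ≠ 0 := by
  rintro rfl
  rw [map_zero, zero_mul, add_zero] at h
  let η := genericPoint X
  let Pl := CohB1.ProjSpace 1 k
  letI := (f.residueFieldMap η).hom.toAlgebra
  haveI : Algebra.IsSeparable (Pl.residueField (f η)) (X.residueField η) := hs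
  haveI := (H28Curve.projLine_facts k).1
  let D0 := LefPen.chart 1 k (0 : Fin (1 + 1))
  have hfD : f η ∈ D0 := mem_chartPreimage f hη 0
  obtain ⟨ρ, hρ, hρX, hρC⟩ := exists_chartPoly k (0 : Fin (1 + 1)) 1 (by decide)
  let θ : Polynomial k →+* X.functionField :=
    ((f.stalkMap η).hom.comp (Pl.presheaf.germ D0 (f η) hfD).hom).comp ρ
  have hθ : ∀ p, θ p = Polynomial.aeval (coordK f hη 0 1) p := by
    intro p
    refine congrArg (fun (r : Polynomial k →+* X.functionField) => r p)
      (Polynomial.ringHom_ext (f := θ) (g := (Polynomial.aeval (coordK f hη 0 1)).toRingHom) (fun c => ?_) ?_)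
    · show (f.stalkMap η) (Pl.presheaf.germ D0 (f η) hfD (ρ (Polynomial.C c))) = Polynomial.aeval _ (Polynomial.C c)
      rw [hρC, Scheme.Hom.germ_stalkMap_apply, Polynomial.aeval_C, ← germ_scal (f ⁻¹ᵁ D0) hfD c]
      congr 1
      show f.app D0 (Pl.presheaf.map (homOfLE le_top).op (LeadFF.glob (CohB1.ProjSpace.toSpec 1 k) c)) = _
      rw [← ConcreteCategory.comp_apply, f.naturality, ConcreteCategory.comp_apply, LeadFF.scal, RingHom.comp_apply]
      congr 1
      show f.appTop ((CohB1.ProjSpace.toSpec 1 k).appTop _) = (X ↘ Spec (CommRingCat.of k)).appTop _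
      rw [← ConcreteCategory.comp_apply, ← Scheme.Hom.comp_appTop, hf]
    · show (f.stalkMap η) (Pl.presheaf.germ D0 (f η) hfD (ρ Polynomial.X)) = Polynomial.aeval _ Polynomial.X
      rw [hρX, Scheme.Hom.germ_stalkMap_apply, Polynomial.aeval_X]
      rfl
  let y₀ : X.residueField η := X.residue η y
  let c₀ : Pl.residueField (f η) := Pl.residue (f η) (Pl.presheaf.germ D0 (f η) hfD (ρ P))
  have hres : ∀ w, algebraMap (Pl.residueField (f η)) (X.residueField η) (Pl.residue (f η) w) =
      X.residue η (f.stalkMap η w) := fun w => congr($(Scheme.residue_residueFieldMap f η) w)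
  have hc : algebraMap (Pl.residueField (f η)) (X.residueField η) c₀ = y₀ ^ 2 := by
    rw [hres, show (f.stalkMap η) (Pl.presheaf.germ D0 (f η) hfD (ρ P)) = θ P from rfl, hθ, ← h, map_pow]
  have htwo : (2 : X.residueField η) = 0 := by
    have h' : (2 : X.functionField) = 0 := by rw [← map_ofNat (algebraMap k X.functionField) 2, h2, map_zero]
    rw [← map_ofNat (X.residue η).hom 2]
    exact (congrArg (X.residue η).hom h').trans (map_zero _)
  have hsy := Algebra.IsSeparable.isSeparable (Pl.residueField (f η)) y₀
  have hdvd : (minpoly (Pl.residueField (f η)) y₀).map (algebraMap _ (X.residueField η)) ∣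
      (Polynomial.X - Polynomial.C y₀) ^ 2 := by
    have h1 : minpoly (Pl.residueField (f η)) y₀ ∣ Polynomial.X ^ 2 - Polynomial.C c₀ :=
      minpoly.dvd _ _ (by rw [map_sub, map_pow, Polynomial.aeval_X, Polynomial.aeval_C, hc, sub_self])
    refine (Polynomial.map_dvd _ h1).trans (dvd_of_eq ?_)
    rw [Polynomial.map_sub, Polynomial.map_pow, Polynomial.map_X, Polynomial.map_C, hc, Polynomial.C_pow]
    have htwo' : (2 : Polynomial (X.residueField η)) = 0 := by rw [← Polynomial.C_ofNat, htwo, Polynomial.C_0]
    linear_combination (Polynomial.X * Polynomial.C y₀ - Polynomial.C y₀ ^ 2) * htwo'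
  obtain ⟨i, hi, hassoc⟩ := (dvd_prime_pow (Polynomial.prime_X_sub_C y₀) 2).1 hdvd
  have hsm := (Polynomial.Separable.map (f := algebraMap _ (X.residueField η)) hsy)
  have hi1 : i ≤ 1 := by
    by_contra hlt
    have hsq := (hsm.squarefree) (Polynomial.X - Polynomial.C y₀)
      ((by rw [← pow_two]; exact pow_dvd_pow _ (by omega) : (Polynomial.X - Polynomial.C y₀) * (Polynomial.X - Polynomial.C y₀) ∣
        (Polynomial.X - Polynomial.C y₀) ^ i).trans hassoc.symm.dvd)
    exact (Polynomial.prime_X_sub_C y₀).not_unit hsq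
  have hint : _root_.IsIntegral (Pl.residueField (f η)) y₀ := hsy.isIntegral
  have hd1 : (minpoly (Pl.residueField (f η)) y₀).natDegree = 1 := by
    have h1 := Polynomial.natDegree_eq_of_degree_eq (Polynomial.degree_eq_degree_of_associated hassoc)
    rw [Polynomial.natDegree_map, Polynomial.natDegree_pow, Polynomial.natDegree_X_sub_C, mul_one] at h1
    have h2 := minpoly.natDegree_pos hint
    omega
  obtain ⟨w, hw⟩ := minpoly.natDegree_eq_one_iff.1 hd1
  obtain ⟨w, rfl⟩ := Pl.residue_surjective (f η) w
  rw [hres] at hw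
  have hy : f.stalkMap η w = y := (H29CurveDual.bijective_residue_genericPoint (rfl : η = genericPoint X)).1 hw
  letI := (Pl.presheaf.germ D0 (f η) hfD).hom.toAlgebra
  haveI : Nonempty D0 := ⟨⟨_, hfD⟩⟩
  haveI := H7Lim.isFractionRing_stalk (isAffineOpen_chart k (0 : Fin (1 + 1))) hη hfD
  obtain ⟨⟨a, b⟩, hab⟩ := IsLocalization.surj (nonZeroDivisors Γ(Pl, D0)) w
  obtain ⟨p, hp⟩ := hρ.2 a
  obtain ⟨q, hq⟩ := hρ.2 b.1
  have e := congrArg (f.stalkMap η).hom hab
  rw [map_mul] at e
  have e' : y * θ q = θ p := by rw [← hy]; simp only [θ, RingHom.comp_apply, hq, hp]; exact e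
  rw [hθ, hθ] at e'
  obtain ⟨-, hq0⟩ := D.indep (-p) q (by rw [map_neg]; linear_combination e')
  exact nonZeroDivisors.ne_zero b.2 (by rw [← hq, hq0, map_zero])

end Groth.Agent.H29DoubleCover
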