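import Groth.Agent.H29DoubleCover.Equation.CechTwo

/-!
# The equation of a double cover of the line
-/

set_option autoImplicit false
set_option linter.style.haveILetI false

universe u

open CategoryTheory AlgebraicGeometry TopologicalSpace

namespace Groth.Agent.H29DoubleCover

attribute [local instance] Curv2.stalkAlgebra

variable {k : Type u} [Field k] {X : Scheme.{u}} [X.Over (Spec (CommRingCat.of k))] [IsIntegral X]
  [IsProper (X ↘ Spec (CommRingCat.of k))]
  (f : X ⟶ CohB1.ProjSpace 1 k) [IsFinite f] [Flat f]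
  (hf : f ≫ CohB1.ProjSpace.toSpec 1 k = X ↘ Spec (CommRingCat.of k))
  (hη : f (genericPoint X) = genericPoint (CohB1.ProjSpace 1 k))

/-- The functions on a chart. -/
noncomputable abbrev chartSub (i : Fin (1 + 1)) : Subalgebra k X.functionField :=
  secSub (k := k) (f ⁻¹ᵁ LefPen.chart 1 k i) (mem_chartPreimage f hη i)

include hf in
theorem exists_normal_lattices (hN : ∀ x : X, IsIntegrallyClosed (X.presheaf.stalk x))
    (hr : f.finrank (genericPoint (CohB1.ProjSpace 1 k)) = 2) (g : ℕ) (hg : Curv2.genus k X = g) (hg1 : 1 ≤ g) :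
    ∃ y : X.functionField,
      Lattices (coordK f hη 0 1) y ((coordK f hη 0 1)⁻¹ ^ (g + 1) * y) (chartSub f hη 0) (chartSub f hη 1)
        (secSub (k := k) (f ⁻¹ᵁ LefPen.chart 1 k 0 ⊓ f ⁻¹ᵁ LefPen.chart 1 k 1)
          ⟨mem_chartPreimage f hη 0, mem_chartPreimage f hη 1⟩) ∧
      ∀ z b₁ b₀ : X.functionField, b₁ ∈ chartSub f hη 1 → b₀ ∈ chartSub f hη 1 → z ^ 2 + b₁ * z = b₀ →
        z ∈ chartSub f hη 1 := by
  classical
  let t := coordK f hη 0 1
  have ht : coordK f hη 1 0 = t⁻¹ := eq_inv_of_mul_eq_one_right (coordK_mul f hη)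
  obtain ⟨y, hinj, hind, hA⟩ := exists_chartLattice f hf hη hN hr 0 1 (by decide)
  obtain ⟨y', hinj', hind', hB⟩ := exists_chartLattice f hf hη hN hr 1 0 (by decide)
  rw [ht] at hind' hB
  have hmemC : ∀ (i j : Fin (1 + 1)) (z : X.functionField),
      z ∈ secSub (k := k) (f ⁻¹ᵁ LefPen.chart 1 k i ⊓ f ⁻¹ᵁ LefPen.chart 1 k j)
        ⟨mem_chartPreimage f hη i, mem_chartPreimage f hη j⟩ ↔
      ∃ m : ℕ, coordK f hη i j ^ m * z ∈ chartSub f hη i := by
    intro i j z
    have hb : X.basicOpen (f.app _ (coordFun k i j)) = f ⁻¹ᵁ LefPen.chart 1 k i ⊓ f ⁻¹ᵁ LefPen.chart 1 k j := by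
      rw [← Scheme.preimage_basicOpen, basicOpen_coordFun]; rfl
    have hη' : genericPoint X ∈ X.basicOpen (f.app _ (coordFun k i j)) :=
      hb ▸ (⟨mem_chartPreimage f hη i, mem_chartPreimage f hη j⟩ :
        genericPoint X ∈ f ⁻¹ᵁ LefPen.chart 1 k i ⊓ f ⁻¹ᵁ LefPen.chart 1 k j)
    rw [← secSub_congr hb hη' _]
    exact mem_secSub_basicOpen ((isAffineOpen_chart k i).preimage f) _ hη' z
  have D : Lattices t y y' (chartSub f hη 0) (chartSub f hη 1)
      (secSub (k := k) (f ⁻¹ᵁ LefPen.chart 1 k 0 ⊓ f ⁻¹ᵁ LefPen.chart 1 k 1)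
        ⟨mem_chartPreimage f hη 0, mem_chartPreimage f hη 1⟩) :=
    ⟨hinj, hind, hind', hA, hB, hmemC 0 1, fun z => by
      rw [← ht, ← hmemC 1 0]
      rw [secSub_congr (inf_comm _ _) _ (⟨mem_chartPreimage f hη 1, mem_chartPreimage f hη 0⟩ :
        genericPoint X ∈ f ⁻¹ᵁ LefPen.chart 1 k 1 ⊓ f ⁻¹ᵁ LefPen.chart 1 k 0)]⟩
  have hfr := genus_two_cover (k := k) (fun i => f ⁻¹ᵁ LefPen.chart 1 k i) (mem_chartPreimage f hη)
    (fun i => (isAffineOpen_chart k i).preimage f) (fun x => by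
      obtain ⟨i, hi⟩ := Opens.mem_iSup.1
        ((H11Proj.ProjSpace.iSup_basicOpen 1 k).ge (trivial : f x ∈ (⊤ : (CohB1.ProjSpace 1 k).Opens)))
      fin_cases i
      · exact Or.inl hi
      · exact Or.inr hi)
  obtain ⟨y₀, D'⟩ := D.exists_normal g hg1 (hfr.trans hg)
  refine ⟨y₀, D', ?_⟩
  intro z b₁ b₀ hb₁ hb₀ hz
  let V := f ⁻¹ᵁ LefPen.chart 1 k 1
  have hV : IsAffineOpen V := (isAffineOpen_chart k 1).preimage f
  haveI : Nonempty V := ⟨⟨_, mem_chartPreimage f hη 1⟩⟩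
  haveI := functionField_isFractionRing_of_isAffineOpen X V hV
  haveI := H7Lim.isIntegrallyClosed_section hN hV
  obtain ⟨s₁, rfl⟩ := hb₁
  obtain ⟨s₀, rfl⟩ := hb₀
  have hzi : _root_.IsIntegral Γ(X, V) z :=
    ⟨Polynomial.X ^ 2 + (Polynomial.C s₁ * Polynomial.X - Polynomial.C s₀),
      Polynomial.monic_X_pow_add ((Polynomial.degree_sub_le _ _).trans_lt (max_lt
        (Polynomial.degree_C_mul_X_le _ |>.trans_lt (by decide)) (Polynomial.degree_C_le.trans_lt (by decide)))),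
      by
        simp only [Polynomial.eval₂_add, Polynomial.eval₂_sub, Polynomial.eval₂_mul, Polynomial.eval₂_pow,
          Polynomial.eval₂_C, Polynomial.eval₂_X]
        exact (add_sub_assoc _ _ _).symm.trans (sub_eq_zero.2 hz)⟩
  obtain ⟨s, hs⟩ := IsIntegrallyClosed.isIntegral_iff.1 hzi
  exact ⟨s, hs⟩

omit [IsIntegral X] [IsProper (X ↘ Spec (CommRingCat.of k))] [IsFinite f] [Flat f] in
/-- Squares in a lattice. -/
theorem exists_relation [IsIntegral X] {t y y' : X.functionField} {A B C : Subalgebra k X.functionField}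
    (D : Lattices t y y' A B C) :
    ∃ P Q : Polynomial k, y ^ 2 + Polynomial.aeval t Q * y = Polynomial.aeval t P := by
  have hy : y ∈ A := (D.memA _).2 ⟨0, 1, by simp⟩
  obtain ⟨p, q, h⟩ := (D.memA _).1 (mul_mem hy hy)
  exact ⟨p, -q, by rw [map_neg]; linear_combination h⟩

end Groth.Agent.H29DoubleCover
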